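/-
Automorphisms with few fixed points: sections, and small facts on derived series (helper83).

Main results (namespace `Cfsg.Agent.AlperinFix`): `card_fixed_quotient_le`, `card_le_of_pow_sq`,
`exists_central_mod`, `dS`, `derivedSeries_card`, `derivedSeries_le_ker`.
-/
import Cfsg.Agent.Lib.PGroup.Basic

set_option autoImplicit false
open scoped commutatorElement

set_option linter.style.haveILetI false
set_option linter.deprecated false

namespace Cfsg.Agent.AlperinFix

/-- An automorphism of a group has at most as many fixed points on an invariant quotient. -/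
theorem card_fixed_quotient_le {U : Type*} [Group U] [Finite U] (φ : U →* U) (N : Subgroup U)
    [N.Normal] (hN : N ≤ N.comap φ) :
    Nat.card {q : U ⧸ N // QuotientGroup.map N N φ hN q = q} ≤ Nat.card {u : U // φ u = u} := by
  classical
  set t : Set (U ⧸ N) := {q | QuotientGroup.map N N φ hN q = q}
  have h1 : Nat.card (QuotientGroup.mk ⁻¹' t : Set U) = Nat.card N * Nat.card t := by
    rw [Nat.card_congr (QuotientGroup.preimageMkEquivSubgroupProdSet N t), Nat.card_prod]
  set f : (QuotientGroup.mk ⁻¹' t : Set U) → N := fun u => ⟨(u.1)⁻¹ * φ u.1, by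
    have hu : ((φ u.1 : U) : U ⧸ N) = (u.1 : U ⧸ N) := u.2
    exact QuotientGroup.eq.mp hu.symm⟩
  have hfib : ∀ z : N, Nat.card {u // f u = z} ≤ Nat.card {u : U // φ u = u} := by
    intro z
    rcases isEmpty_or_nonempty {u // f u = z} with he | ⟨⟨u₀, hu₀⟩⟩
    · simp
    refine Nat.card_le_card_of_injective (fun u => ⟨u.1.1 * (u₀.1)⁻¹, ?_⟩) ?_
    · have h2 : (u.1.1)⁻¹ * φ u.1.1 = (u₀.1)⁻¹ * φ u₀.1 := congrArg Subtype.val (u.2.trans hu₀.symm)
      calc φ (u.1.1 * (u₀.1)⁻¹) = u.1.1 * ((u.1.1)⁻¹ * φ u.1.1) * (φ u₀.1)⁻¹ := by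
            rw [map_mul, map_inv]; group
        _ = _ := by rw [h2]; group
    · intro a b hab
      exact Subtype.ext (Subtype.ext (mul_right_cancel (congrArg Subtype.val hab)))
  have h2 : Nat.card (QuotientGroup.mk ⁻¹' t : Set U) ≤ Nat.card N * Nat.card {u : U // φ u = u} := by
    haveI := Fintype.ofFinite N
    rw [← Nat.card_congr (Equiv.sigmaFiberEquiv f), Nat.card_sigma]
    refine (Finset.sum_le_card_nsmul _ _ _ fun z _ => hfib z).trans (le_of_eq ?_)
    rw [Finset.card_univ, smul_eq_mul, ← Nat.card_eq_fintype_card]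
  exact Nat.le_of_mul_le_mul_left (h1 ▸ h2) Nat.card_pos

/-- A finite abelian group of exponent dividing `p ^ 2` with an endomorphism of period `p` and at most `c`
fixed points has order at most `c ^ (2 p)`. -/
theorem card_le_of_pow_sq {A : Type*} [CommGroup A] [Finite A] {p c : ℕ} [hp : Fact p.Prime]
    (φ : A →* A) (hA : ∀ a : A, a ^ (p * p) = 1) (hφ : ∀ a, φ^[p] a = a)
    (hc : Nat.card {a : A // φ a = a} ≤ c) : Nat.card A ≤ c ^ (2 * p) := by
  set K : Subgroup A := (powMonoidHom p).ker with hK
  have hcard : Nat.card A = Nat.card K * Nat.card (powMonoidHom p : A →* A).range := by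
    rw [← Subgroup.index_ker, hK, Subgroup.card_mul_index]
  have hrk : (powMonoidHom p : A →* A).range ≤ K := by
    rintro _ ⟨a, rfl⟩
    show (a ^ p) ^ p = 1
    rw [← pow_mul, hA]
  suffices hKc : Nat.card K ≤ c ^ p by
    rw [hcard, two_mul, pow_add]
    exact Nat.mul_le_mul hKc ((Subgroup.card_le_of_le hrk).trans hKc)
  have hKφ : ∀ a ∈ K, φ a ∈ K := fun a ha => by
    show φ a ^ p = 1
    rw [← map_pow, show a ^ p = 1 from ha, map_one]
  let M := Additive K
  let ψ : AddMonoid.End M :=
    MonoidHom.toAdditive ((φ.comp K.subtype).codRestrict K fun a => hKφ a a.2)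
  have hψ : ∀ (m : ℕ) (x : M), (((ψ ^ m : AddMonoid.End M) x).toMul : A) = φ^[m] (x.toMul : A) := by
    intro m
    induction m with
    | zero => intro x; rfl
    | succ m ih =>
      intro x
      rw [pow_succ', Function.iterate_succ_apply', ← ih x]
      rfl
  have hp0 : (p : AddMonoid.End M) = 0 := by
    refine AddMonoidHom.ext fun x => ?_
    show (p : AddMonoid.End M) x = 0
    rw [AddMonoid.End.natCast_apply]
    exact Additive.toMul.injective (Subtype.ext (by
      show ((x.toMul ^ p : K) : A) = 1
      rw [SubmonoidClass.coe_pow]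
      exact x.toMul.2))
  have hδ : (ψ - 1) ^ p = (0 : AddMonoid.End M) := by
    obtain ⟨r, hr⟩ := (Commute.one_right (ψ - 1)).exists_add_pow_prime_eq hp.out
    rw [sub_add_cancel, one_pow, hp0, zero_mul, zero_mul, zero_mul, add_zero] at hr
    have h1 : ψ ^ p = 1 := AddMonoidHom.ext fun x =>
      Additive.toMul.injective (Subtype.ext ((hψ p x).trans (hφ _)))
    rw [h1] at hr
    exact add_eq_right.mp hr.symm
  set d : AddMonoid.End M := ψ - 1
  have hker : ∀ k, Nat.card {x : M // (d ^ k) x = 0} ≤ c ^ k := by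
    intro k
    induction k with
    | zero =>
      refine le_of_eq_of_le ?_ le_rfl
      rw [pow_zero, pow_zero, Nat.card_eq_one_iff_unique]
      exact ⟨⟨fun a b => Subtype.ext (a.2.trans b.2.symm)⟩, ⟨⟨0, rfl⟩⟩⟩
    | succ k ih =>
      classical
      haveI := Fintype.ofFinite {x : M // (d ^ k) x = 0}
      let g : {x : M // (d ^ (k + 1)) x = 0} → {x : M // (d ^ k) x = 0} := fun x =>
        ⟨d x.1, by show (d ^ k * d) x.1 = 0; rw [← pow_succ]; exact x.2⟩
      have hfib : ∀ z, Nat.card {x // g x = z} ≤ c := by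
        intro z
        rcases isEmpty_or_nonempty {x // g x = z} with he | ⟨⟨x₀, hx₀⟩⟩
        · rw [Nat.card_of_isEmpty]; exact Nat.zero_le _
        refine le_trans ?_ hc
        refine Nat.card_le_card_of_injective
          (fun x => ⟨((x.1.1 - x₀.1).toMul : A), ?_⟩) ?_
        · have h0 : d (x.1.1 - x₀.1) = 0 := by
            rw [map_sub, sub_eq_zero]
            exact congrArg Subtype.val (x.2.trans hx₀.symm)
          have h1 : ψ (x.1.1 - x₀.1) = x.1.1 - x₀.1 := sub_eq_zero.mp h0
          have h2 := hψ 1 (x.1.1 - x₀.1)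
          rw [pow_one, h1] at h2
          exact h2.symm
        · intro a b hab
          have h4 : ((a.1.1 - x₀.1).toMul : A) = ((b.1.1 - x₀.1).toMul : A) := congrArg (fun z : {a : A // φ a = a} => (z : A)) hab
          have h3 : (a.1.1 - x₀.1 : M) = b.1.1 - x₀.1 :=
            Additive.toMul.injective (Subtype.ext h4)
          exact Subtype.ext (Subtype.ext (sub_left_injective h3))
      rw [← Nat.card_congr (Equiv.sigmaFiberEquiv g), Nat.card_sigma]
      refine (Finset.sum_le_card_nsmul _ _ _ fun z _ => hfib z).trans ?_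
      rw [Finset.card_univ, smul_eq_mul, ← Nat.card_eq_fintype_card, pow_succ]
      exact Nat.mul_le_mul_right _ ih
  refine le_trans (le_of_eq ?_) (hker p)
  rw [hδ]
  exact Nat.card_congr (Additive.ofMul.trans (Equiv.subtypeUnivEquiv fun x => rfl).symm)

/-- In a finite `p`-group a normal section has a nontrivial central element. -/
theorem exists_central_mod {X : Type*} [Group X] [Finite X] {p : ℕ} [Fact p.Prime] (hX : IsPGroup p X)
    {K N : Subgroup X} [K.Normal] [N.Normal] (hlt : K < N) :
    ∃ x : X, x ∈ N ∧ x ∉ K ∧ ∀ g : X, ⁅g, x⁆ ∈ K := by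
  haveI : (N.map (QuotientGroup.mk' K)).Normal :=
    Subgroup.Normal.map inferInstance _ (QuotientGroup.mk'_surjective K)
  have hne : N.map (QuotientGroup.mk' K) ≠ ⊥ := by
    rw [Ne, Subgroup.map_eq_bot_iff, QuotientGroup.ker_mk']
    exact not_le_of_gt hlt
  obtain ⟨⟨q, hq⟩, hq0⟩ := (Subgroup.ne_bot_iff_exists_ne_one).mp
    (PGroup.inf_center_ne_bot (hX.to_quotient K) hne)
  have hq1 : q ≠ 1 := fun e => hq0 (Subtype.ext e)
  obtain ⟨x, hx, rfl⟩ := hq.1
  refine ⟨x, hx, fun h => hq1 ((QuotientGroup.eq_one_iff x).mpr h), fun g => ?_⟩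
  rw [← QuotientGroup.eq_one_iff, ← QuotientGroup.mk'_apply, map_commutatorElement,
    commutatorElement_eq_one_iff_commute]
  exact Subgroup.mem_center_iff.mp hq.2 _

/-- The derived series of a subgroup, computed in the ambient group. -/
def dS {X : Type*} [Group X] (H : Subgroup X) : ℕ → Subgroup X
  | 0 => H
  | k + 1 => ⁅dS H k, dS H k⁆

section dS

variable {X : Type*} [Group X]

theorem dS_zero (H : Subgroup X) : dS H 0 = H := rfl

theorem dS_succ (H : Subgroup X) (k : ℕ) : dS H (k + 1) = ⁅dS H k, dS H k⁆ := rfl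

theorem dS_mono {H K : Subgroup X} (h : H ≤ K) : ∀ k, dS H k ≤ dS K k
  | 0 => h
  | k + 1 => Subgroup.commutator_mono (dS_mono h k) (dS_mono h k)

theorem dS_add (H : Subgroup X) (a : ℕ) : ∀ b, dS H (a + b) = dS (dS H a) b
  | 0 => rfl
  | b + 1 => by
    show ⁅dS H (a + b), dS H (a + b)⁆ = ⁅dS (dS H a) b, dS (dS H a) b⁆
    rw [dS_add H a b]

theorem dS_normal {H : Subgroup X} (hH : H.Normal) : ∀ k, (dS H k).Normal
  | 0 => hH
  | k + 1 => by
    haveI := dS_normal hH k
    exact Subgroup.commutator_normal _ _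

theorem dS_bot : ∀ k, dS (⊥ : Subgroup X) k = ⊥
  | 0 => rfl
  | k + 1 => by rw [dS_succ, dS_bot k, Subgroup.commutator_bot_left]

theorem dS_succ_le {H : Subgroup X} (hH : H.Normal) (k : ℕ) : dS H (k + 1) ≤ dS H k := by
  haveI := dS_normal hH k
  exact Subgroup.commutator_le_left _ _

theorem dS_antitone {H : Subgroup X} (hH : H.Normal) : Antitone (dS H) :=
  antitone_nat_of_succ_le (dS_succ_le hH)

theorem dS_map {Y : Type*} [Group Y] (f : X →* Y) (H : Subgroup X) :
    ∀ k, (dS H k).map f = dS (H.map f) k
  | 0 => rfl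
  | k + 1 => by rw [dS_succ, Subgroup.map_commutator, dS_map f H k, dS_succ]

theorem dS_top : ∀ k, dS (⊤ : Subgroup X) k = derivedSeries X k
  | 0 => rfl
  | k + 1 => by rw [dS_succ, dS_top k, derivedSeries_succ]

theorem dS_range {A : Type*} [Group A] (f : A →* X) (k : ℕ) :
    dS f.range k = (derivedSeries A k).map f := by
  rw [MonoidHom.range_eq_map, ← dS_map, dS_top]

theorem dS_eq_bot_iff (H : Subgroup X) (k : ℕ) : dS H k = ⊥ ↔ derivedSeries H k = ⊥ := by
  conv_lhs => rw [← Subgroup.range_subtype H, dS_range]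
  exact Subgroup.map_eq_bot_iff_of_injective _ H.subtype_injective

end dS

/-- The derived length of a finite soluble group is bounded by its order. -/
theorem derivedSeries_card {A : Type*} [Group A] [Finite A] [hA : Group.IsSolvable A] {m : ℕ}
    (hm : Nat.card A ≤ m) : derivedSeries A m = ⊥ := by
  have key : ∀ k, derivedSeries A k = ⊥ ∨ Nat.card (derivedSeries A k) + k ≤ Nat.card A := by
    intro k
    induction k with
    | zero => right; rw [derivedSeries_zero, Subgroup.card_top, add_zero]
    | succ k ih =>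
      rcases ih with h | h
      · exact Or.inl (le_bot_iff.mp ((derivedSeries_antitone A k.le_succ).trans h.le))
      rcases (derivedSeries_antitone A k.le_succ).eq_or_lt with heq | hlt
      · left
        obtain ⟨t, ht⟩ := hA.solvable
        have hs : ∀ s, derivedSeries A (k + s) = derivedSeries A k := by
          intro s
          induction s with
          | zero => rfl
          | succ s ih2 => rw [← add_assoc, derivedSeries_succ, ih2, ← derivedSeries_succ, heq]
        refine le_bot_iff.mp ?_
        rw [heq, ← hs t, ← ht]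
        exact derivedSeries_antitone A (Nat.le_add_left t k)
      · right
        have := Set.Finite.card_lt_card (Set.toFinite _) (show (derivedSeries A (k + 1) : Set A) ⊂ derivedSeries A k from hlt)
        simp only [SetLike.coe_sort_coe] at this
        omega
  rcases key m with h | h
  · exact h
  · have := Nat.card_pos (α := derivedSeries A m)
    omega

theorem derivedSeries_le_ker {A B : Type*} [Group A] [Group B] [Finite B] [Group.IsSolvable A] (f : A →* B)
    {m : ℕ} (hm : Nat.card B ≤ m) : derivedSeries A m ≤ f.ker := by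
  haveI : Group.IsSolvable f.range := solvable_of_surjective f.rangeRestrict_surjective
  have h := derivedSeries_card (A := f.range) ((Subgroup.card_le_card_group _).trans hm)
  rw [← f.ker_rangeRestrict]
  exact (Subgroup.map_eq_bot_iff _).mp
    (le_bot_iff.mp ((map_derivedSeries_le_derivedSeries f.rangeRestrict m).trans h.le))

end Cfsg.Agent.AlperinFix
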