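/-
Normal subgroups `V` of a finite `p`-group with `⁅N, V⁆ ≤ ℧℧N` for all normal `N ≤ V` (helper83).

Main results (namespace `Cfsg.Agent.AlperinFix`): `agemo`, `Good`, `Good.agemo_comm`, `Good.agIter_comm`,
`dS_agIter`, `relIndex_le`, `exists_good`.
-/
import Cfsg.Agent.Lib.AlperinFix.Fixed

set_option autoImplicit false
set_option linter.style.haveILetI false
open scoped commutatorElement

namespace Cfsg.Agent.AlperinFix

variable {X : Type*} [Group X]

/-- The subgroup generated by the `p`-th powers. -/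
def agemo (p : ℕ) (H : Subgroup X) : Subgroup X := Subgroup.closure ((fun x => x ^ p) '' (H : Set X))

/-- Iterated `agemo`. -/
def agIter (p : ℕ) (H : Subgroup X) : ℕ → Subgroup X
  | 0 => H
  | j + 1 => agemo p (agIter p H j)

/-- `V` acts trivially on all its normal sections of exponent `p ^ 2`. -/
def Good (p : ℕ) (V : Subgroup X) : Prop :=
  ∀ N : Subgroup X, N.Normal → N ≤ V → ⁅N, V⁆ ≤ agemo p (agemo p N)

variable {p : ℕ}

theorem pow_mem_agemo {H : Subgroup X} {x : X} (hx : x ∈ H) : x ^ p ∈ agemo p H :=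
  Subgroup.subset_closure ⟨x, hx, rfl⟩

theorem agemo_le_iff {H K : Subgroup X} : agemo p H ≤ K ↔ ∀ x ∈ H, x ^ p ∈ K := by
  rw [agemo, Subgroup.closure_le, Set.image_subset_iff]
  rfl

theorem agemo_le (H : Subgroup X) : agemo p H ≤ H := agemo_le_iff.mpr fun _ hx => pow_mem hx p

theorem agemo_mono {H K : Subgroup X} (h : H ≤ K) : agemo p H ≤ agemo p K :=
  agemo_le_iff.mpr fun _ hx => pow_mem_agemo (h hx)

theorem agemo_normal {H : Subgroup X} (hH : H.Normal) : (agemo p H).Normal :=
  ⟨fun z hz g => (agemo_le_iff (K := (agemo p H).comap (MulAut.conj g).toMonoidHom)).mpr (fun x hx => by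
    show g * x ^ p * g⁻¹ ∈ agemo p H
    rw [← conj_pow]
    exact pow_mem_agemo (hH.conj_mem x hx g)) hz⟩

theorem agIter_succ (H : Subgroup X) (j : ℕ) : agIter p H (j + 1) = agemo p (agIter p H j) := rfl

theorem agIter_normal {H : Subgroup X} (hH : H.Normal) : ∀ j, (agIter p H j).Normal
  | 0 => hH
  | j + 1 => agemo_normal (agIter_normal hH j)

theorem agIter_add (H : Subgroup X) (a : ℕ) : ∀ b, agIter p H (a + b) = agIter p (agIter p H a) b
  | 0 => rfl
  | b + 1 => by
    show agemo p (agIter p H (a + b)) = agemo p (agIter p (agIter p H a) b)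
    rw [agIter_add H a b]

theorem agIter_antitone (H : Subgroup X) : Antitone (agIter p H) :=
  antitone_nat_of_succ_le fun _ => agemo_le _

theorem agIter_le (H : Subgroup X) (j : ℕ) : agIter p H j ≤ H := agIter_antitone H (Nat.zero_le j)

theorem agIter_mono {H K : Subgroup X} (h : H ≤ K) : ∀ j, agIter p H j ≤ agIter p K j
  | 0 => h
  | j + 1 => agemo_mono (agIter_mono h j)

theorem pow_mem_agIter {H : Subgroup X} {x : X} (hx : x ∈ H) : ∀ j, x ^ p ^ j ∈ agIter p H j
  | 0 => by rw [pow_zero, pow_one]; exact hx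
  | j + 1 => by rw [pow_succ, pow_mul]; exact pow_mem_agemo (pow_mem_agIter hx j)

theorem commute_mk_of_mem {M : Subgroup X} [M.Normal] {x y : X} (h : ⁅x, y⁆ ∈ M) :
    Commute (x : X ⧸ M) (y : X ⧸ M) := by
  rw [← commutatorElement_eq_one_iff_commute]
  exact (QuotientGroup.eq_one_iff _).mpr h

theorem mem_of_commute_mk {M : Subgroup X} [M.Normal] {x y : X} (h : Commute (x : X ⧸ M) (y : X ⧸ M)) :
    ⁅x, y⁆ ∈ M :=
  (QuotientGroup.eq_one_iff _).mp (commutatorElement_eq_one_iff_commute.mpr h)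

theorem commutator_pow_left {G : Type*} [Group G] {x y : G} (h : Commute ⁅x, y⁆ x) (m : ℕ) :
    ⁅x ^ m, y⁆ = ⁅x, y⁆ ^ m := by
  induction m with
  | zero => rw [pow_zero, pow_zero, commutatorElement_one_left]
  | succ m ih =>
    calc ⁅x ^ (m + 1), y⁆ = x * ⁅x ^ m, y⁆ * x⁻¹ * ⁅x, y⁆ := by
          rw [pow_succ']; simp only [commutatorElement_def]; group
      _ = _ := by
          rw [ih, ← (h.pow_left m).eq, mul_inv_cancel_right, pow_succ]

theorem mk_commutator_pow {M : Subgroup X} [M.Normal] {x y : X} (h : ⁅⁅x, y⁆, x⁆ ∈ M) (m : ℕ) :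
    ((⁅x ^ m, y⁆ : X) : X ⧸ M) = (⁅x, y⁆ ^ m : X) := by
  have h1 : Commute ⁅(x : X ⧸ M), (y : X ⧸ M)⁆ (x : X ⧸ M) := commute_mk_of_mem h
  exact commutator_pow_left h1 m

theorem commutator_closure_le {s : Set X} {B M : Subgroup X} [M.Normal]
    (h : ∀ a ∈ s, ∀ b ∈ B, ⁅a, b⁆ ∈ M) : ⁅Subgroup.closure s, B⁆ ≤ M := by
  rw [Subgroup.commutator_le]
  intro a ha b hb
  have hle : Subgroup.closure s ≤ (Subgroup.centralizer {(b : X ⧸ M)}).comap (QuotientGroup.mk' M) := by
    rw [Subgroup.closure_le]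
    intro z hz
    rw [SetLike.mem_coe, Subgroup.mem_comap, Subgroup.mem_centralizer_singleton_iff]
    exact (commute_mk_of_mem (h z hz b hb)).eq
  exact mem_of_commute_mk (Subgroup.mem_centralizer_singleton_iff.mp (hle ha))

variable [Finite X]

/-- A normal subgroup is not generated by its `p`-th powers modulo a proper normal subgroup. -/
theorem le_of_le_sup_agemo [hp : Fact p.Prime] (hX : IsPGroup p X) {D H : Subgroup X} (hD : D.Normal)
    (hH : H.Normal) (hDH : D ≤ H) (h : H ≤ D ⊔ agemo p H) : H ≤ D := by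
  classical
  by_contra hnot
  obtain ⟨K, ⟨hKn, hDK, hKH⟩, hKmax⟩ := (Set.toFinite {K : Subgroup X | K.Normal ∧ D ≤ K ∧ K < H}).exists_maximal
    ⟨D, hD, le_rfl, lt_of_le_not_ge hDH hnot⟩
  obtain ⟨x, hxH, hxK, hxc⟩ := exists_central_mod hX hKH
  obtain ⟨k, hk⟩ := hX x
  have hex : ∃ j, x ^ p ^ j ∈ K := ⟨k, by rw [hk]; exact one_mem _⟩
  obtain ⟨j, hj⟩ : ∃ j, Nat.find hex = j + 1 := by
    rcases Nat.eq_zero_or_pos (Nat.find hex) with h0 | h0
    · refine absurd ?_ hxK
      have := Nat.find_spec hex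
      rwa [h0, pow_zero, pow_one] at this
    · exact ⟨Nat.find hex - 1, by omega⟩
  set y := x ^ p ^ j with hy
  have hyK : y ∉ K := Nat.find_min hex (by omega)
  have hyp : y ^ p ∈ K := by
    have := Nat.find_spec hex
    rw [hj, pow_succ, pow_mul] at this
    exact this
  have hyc : (y : X ⧸ K) ∈ Subgroup.center (X ⧸ K) := by
    rw [hy, QuotientGroup.mk_pow]
    refine pow_mem (Subgroup.mem_center_iff.mpr fun g => ?_) _
    induction g using QuotientGroup.induction_on with
    | _ g => exact (commute_mk_of_mem (hxc g)).eq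
  have hle : Subgroup.zpowers (y : X ⧸ K) ≤ Subgroup.center (X ⧸ K) := Subgroup.zpowers_le.mpr hyc
  haveI hZn : (Subgroup.zpowers (y : X ⧸ K)).Normal := ⟨fun n hn g => by
    rw [Subgroup.mem_center_iff.mp (hle hn) g, mul_inv_cancel_right]; exact hn⟩
  set K' := (Subgroup.zpowers (y : X ⧸ K)).comap (QuotientGroup.mk' K) with hK'
  have hKK' : K ≤ K' := fun z hz => by
    show (z : X ⧸ K) ∈ Subgroup.zpowers (y : X ⧸ K)
    rw [(QuotientGroup.eq_one_iff z).mpr hz]
    exact one_mem _
  have hyK' : y ∈ K' := Subgroup.mem_zpowers _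
  have hK'H : K' ≤ H := by
    intro z hz
    obtain ⟨i, hi⟩ := Subgroup.mem_zpowers_iff.mp hz
    have h1 : (y ^ i)⁻¹ * z ∈ K := QuotientGroup.eq.mp hi
    rw [show z = y ^ i * ((y ^ i)⁻¹ * z) by group]
    exact mul_mem (zpow_mem (pow_mem hxH _) i) (hKH.le h1)
  have heq : K' = H := by
    by_contra hne
    exact hyK (hKmax ⟨Subgroup.Normal.comap hZn _, hDK.trans hKK', lt_of_le_of_ne hK'H hne⟩ hKK' hyK')
  refine not_le_of_gt hKH (h.trans (sup_le hDK (agemo_le_iff.mpr fun z hz => ?_)))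
  rw [← heq] at hz
  obtain ⟨i, hi⟩ := Subgroup.mem_zpowers_iff.mp hz
  rw [← QuotientGroup.eq_one_iff, QuotientGroup.mk_pow, ← show (y : X ⧸ K) ^ i = (z : X ⧸ K) from hi,
    ← zpow_natCast, ← zpow_mul, mul_comm, zpow_mul, zpow_natCast, ← QuotientGroup.mk_pow,
    (QuotientGroup.eq_one_iff _).mpr hyp, one_zpow]

variable {V : Subgroup X}

theorem Good.mono (hV : Good p V) {U : Subgroup X} (h : U ≤ V) : Good p U :=
  fun N hN hNU => (Subgroup.commutator_mono le_rfl h).trans (hV N hN (hNU.trans h))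

/-- The key identity. -/
theorem Good.agemo_comm [Fact p.Prime] (hV : Good p V) (hX : IsPGroup p X) {A B : Subgroup X} (hA : A.Normal)
    (hB : B.Normal) (hAV : A ≤ V) (hBV : B ≤ V) : ⁅agemo p A, B⁆ = agemo p ⁅A, B⁆ := by
  set C := ⁅A, B⁆ with hC
  have hCn : C.Normal := Subgroup.commutator_normal A B
  have hCV : C ≤ V := (Subgroup.commutator_le_left A B).trans hAV
  have h2C : ∀ c ∈ C, ∀ v ∈ V, ⁅c, v⁆ ∈ agemo p (agemo p C) := fun c hc v hv =>
    hV C hCn hCV (Subgroup.commutator_mem_commutator hc hv)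
  haveI hAC : (agemo p C).Normal := agemo_normal hCn
  haveI := agemo_normal (p := p) hAC
  have h1 : ⁅agemo p A, B⁆ ≤ agemo p C := by
    refine commutator_closure_le ?_
    rintro _ ⟨a, ha, rfl⟩ b hb
    have hab : ⁅a, b⁆ ∈ C := Subgroup.commutator_mem_commutator ha hb
    rw [← QuotientGroup.eq_one_iff,
      mk_commutator_pow (agemo_le _ (h2C _ hab a (hAV ha))) p, QuotientGroup.eq_one_iff]
    exact pow_mem_agemo hab
  refine le_antisymm h1 ?_
  haveI := agemo_normal (p := p) hA
  haveI hDn : ⁅agemo p A, B⁆.Normal := Subgroup.commutator_normal _ _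
  set D := ⁅agemo p A, B⁆ with hD
  refine le_of_le_sup_agemo hX hDn hAC h1 (agemo_le_iff.mpr fun c hc => ?_)
  haveI hMn : (D ⊔ agemo p (agemo p C)).Normal := Subgroup.sup_normal _ _
  induction hc using Subgroup.closure_induction with
  | mem z hz =>
    obtain ⟨a, ha, b, hb, rfl⟩ := hz
    rw [← QuotientGroup.eq_one_iff, ← mk_commutator_pow (Subgroup.mem_sup_right
      (h2C _ (Subgroup.commutator_mem_commutator ha hb) a (hAV ha))) p, QuotientGroup.eq_one_iff]
    exact Subgroup.mem_sup_left (Subgroup.commutator_mem_commutator (pow_mem_agemo ha) hb)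
  | one => rw [one_pow]; exact one_mem _
  | mul x y hx hy ihx ihy =>
    have hcm : Commute (x : X ⧸ (D ⊔ agemo p (agemo p C))) (y : X ⧸ _) :=
      commute_mk_of_mem (Subgroup.mem_sup_right (h2C x hx y (hCV hy)))
    rw [← QuotientGroup.eq_one_iff, QuotientGroup.mk_pow, QuotientGroup.mk_mul, hcm.mul_pow,
      ← QuotientGroup.mk_pow, ← QuotientGroup.mk_pow, (QuotientGroup.eq_one_iff _).mpr ihx,
      (QuotientGroup.eq_one_iff _).mpr ihy, one_mul]
  | inv x _ ihx => rw [inv_pow]; exact inv_mem ihx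

theorem Good.agIter_comm_left [Fact p.Prime] (hV : Good p V) (hX : IsPGroup p X) {A B : Subgroup X}
    (hA : A.Normal) (hB : B.Normal) (hAV : A ≤ V) (hBV : B ≤ V) :
    ∀ a, ⁅agIter p A a, B⁆ = agIter p ⁅A, B⁆ a
  | 0 => rfl
  | a + 1 => by
    rw [agIter_succ, agIter_succ, hV.agemo_comm hX (agIter_normal hA a) hB ((agIter_le A a).trans hAV) hBV,
      Good.agIter_comm_left hV hX hA hB hAV hBV a]

theorem Good.agIter_comm [Fact p.Prime] (hV : Good p V) (hX : IsPGroup p X) {A B : Subgroup X}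
    (hA : A.Normal) (hB : B.Normal) (hAV : A ≤ V) (hBV : B ≤ V) (a b : ℕ) :
    ⁅agIter p A a, agIter p B b⁆ = agIter p ⁅A, B⁆ (b + a) := by
  rw [hV.agIter_comm_left hX hA (agIter_normal hB b) hAV ((agIter_le B b).trans hBV), Subgroup.commutator_comm,
    hV.agIter_comm_left hX hB hA hBV hAV, Subgroup.commutator_comm B A, agIter_add]

theorem Good.comm_agIter_le [Fact p.Prime] (hV : Good p V) (hX : IsPGroup p X) (hVn : V.Normal) (i j : ℕ) :
    ⁅agIter p V i, agIter p V j⁆ ≤ agIter p V (i + j + 2) := by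
  rw [hV.agIter_comm hX hVn hVn le_rfl le_rfl, show i + j + 2 = 2 + (j + i) by omega, agIter_add V 2]
  exact agIter_mono (hV V hVn le_rfl) _

theorem dS_agIter [Fact p.Prime] (hV : Good p V) (hX : IsPGroup p X) (hVn : V.Normal) (i : ℕ) :
    ∀ k, dS (agIter p V i) k = agIter p (dS V k) (2 ^ k * i)
  | 0 => by rw [pow_zero, one_mul, dS_zero, dS_zero]
  | k + 1 => by
    have h1 : dS V k ≤ V := dS_antitone hVn (Nat.zero_le k)
    rw [dS_succ, dS_agIter hV hX hVn i k, hV.agIter_comm hX (dS_normal hVn k) (dS_normal hVn k) h1 h1,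
      dS_succ, pow_succ]
    congr 1
    ring

/-- Abelian invariant sections of exponent `p ^ 2` are small. -/
theorem relIndex_le_aut [hp : Fact p.Prime] (α : MulAut X) (hα : α ^ p = 1) {A B : Subgroup X}
    (hB : B.Normal) (hab : ⁅A, A⁆ ≤ B) (hexp : ∀ a ∈ A, a ^ (p * p) ∈ B)
    (hAα : ∀ a ∈ A, α a ∈ A) (hBα : ∀ b ∈ B, α b ∈ B) {c : ℕ}
    (hc : Nat.card {a : A // α (a : X) = a} ≤ c) : B.relIndex A ≤ c ^ (2 * p) := by
  haveI : (B.subgroupOf A).Normal := Subgroup.Normal.comap hB _
  letI : CommGroup (A ⧸ B.subgroupOf A) :=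
    { (inferInstance : Group (A ⧸ B.subgroupOf A)) with
      mul_comm := fun x y => by
        induction x using QuotientGroup.induction_on with
        | _ x =>
          induction y using QuotientGroup.induction_on with
          | _ y =>
            rw [← QuotientGroup.mk_mul, ← QuotientGroup.mk_mul, QuotientGroup.eq, Subgroup.mem_subgroupOf]
            push_cast
            rw [show ((x : X) * y)⁻¹ * (y * x) = ⁅(y : X)⁻¹, (x : X)⁻¹⁆ by rw [commutatorElement_def]; group]
            exact hab (Subgroup.commutator_mem_commutator (A.inv_mem y.2) (A.inv_mem x.2)) }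
  set φ : A →* A := (α.toMonoidHom.comp A.subtype).codRestrict A fun a => hAα a a.2
  have hφN : B.subgroupOf A ≤ (B.subgroupOf A).comap φ := fun a ha => hBα _ ha
  have hit : ∀ (m : ℕ) (a : A), (φ^[m] a : X) = (α ^ m : MulAut X) a := by
    intro m
    induction m with
    | zero => intro a; rfl
    | succ m ih =>
      intro a
      rw [Function.iterate_succ_apply', pow_succ', MulAut.mul_apply, ← ih a]
      rfl
  refine card_le_of_pow_sq (A := A ⧸ B.subgroupOf A) (p := p) (QuotientGroup.map _ _ φ hφN) ?_ ?_ ?_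
  · intro x
    induction x using QuotientGroup.induction_on with
    | _ a => exact (QuotientGroup.eq_one_iff _).mpr (hexp a a.2)
  · have h2 : ∀ (m : ℕ) (a : A), (QuotientGroup.map _ _ φ hφN)^[m] (a : A ⧸ B.subgroupOf A)
        = ((φ^[m] a : A) : A ⧸ B.subgroupOf A) := by
      intro m
      induction m with
      | zero => intro a; rfl
      | succ m ih => intro a; rw [Function.iterate_succ_apply', Function.iterate_succ_apply', ih]; rfl
    intro x
    induction x using QuotientGroup.induction_on with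
    | _ a => rw [h2]; exact congrArg _ (Subtype.ext (by rw [hit, hα]; rfl))
  · refine (card_fixed_quotient_le φ _ hφN).trans (le_trans (le_of_eq (Nat.card_congr ?_)) hc)
    exact Equiv.subtypeEquivRight fun a => Subtype.ext_iff

/-- Abelian sections of exponent `p ^ 2` are small. -/
theorem relIndex_le [hp : Fact p.Prime] {t : X} (ht : t ^ p = 1) {A B : Subgroup X} (hA : A.Normal)
    (hB : B.Normal) (_hBA : B ≤ A) (hab : ⁅A, A⁆ ≤ B) (hexp : ∀ a ∈ A, a ^ (p * p) ∈ B) {c : ℕ}
    (hc : Nat.card {a : A // t * (a : X) * t⁻¹ = a} ≤ c) : B.relIndex A ≤ c ^ (2 * p) :=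
  relIndex_le_aut (MulAut.conj t) (by rw [← map_pow, ht, map_one]) hB hab hexp
    (fun a ha => hA.conj_mem a ha t) (fun b hb => hB.conj_mem b hb t) hc

/-- The intersection of the centralisers of the abelian sections of exponent `p ^ 2` is good, and has soluble
quotient of bounded derived length. -/
theorem exists_good [hp : Fact p.Prime] (hX : IsPGroup p X) {P : Subgroup X} (hP : P.Normal) {t : X}
    (ht : t ^ p = 1) {c : ℕ} (hc : ∀ A ≤ P, Nat.card {a : A // t * (a : X) * t⁻¹ = a} ≤ c) :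
    ∃ V : Subgroup X, V.Normal ∧ V ≤ P ∧ Good p V ∧ dS P (c ^ (2 * p)).factorial ≤ V := by
  classical
  let Sec := {AB : Subgroup X × Subgroup X // AB.1.Normal ∧ AB.2.Normal ∧ AB.2 ≤ AB.1 ∧ AB.1 ≤ P ∧
    ⁅AB.1, AB.1⁆ ≤ AB.2 ∧ ∀ a ∈ AB.1, a ^ (p * p) ∈ AB.2}
  let cen : Sec → Subgroup X := fun s =>
    haveI : s.1.2.Normal := s.2.2.1
    (Subgroup.centralizer (s.1.1.map (QuotientGroup.mk' s.1.2) : Set (X ⧸ s.1.2))).comap (QuotientGroup.mk' s.1.2)
  have hcen : ∀ s, (cen s).Normal := fun s => by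
    haveI : s.1.2.Normal := s.2.2.1
    haveI : (s.1.1.map (QuotientGroup.mk' s.1.2)).Normal :=
      Subgroup.Normal.map s.2.1 _ (QuotientGroup.mk'_surjective _)
    exact Subgroup.Normal.comap inferInstance _
  set V := P ⊓ ⨅ s, cen s with hV
  have hVP : V ≤ P := inf_le_left
  have hVn : V.Normal := by
    haveI := hP
    haveI : (⨅ s, cen s).Normal := Subgroup.normal_iInf_normal hcen
    exact Subgroup.normal_inf_normal _ _
  refine ⟨V, hVn, hVP, ?_, ?_⟩
  · intro N hN hNV
    set M := agemo p (agemo p N) with hM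
    have hMn : M.Normal := agemo_normal (agemo_normal hN)
    have hMN : M ≤ N := (agemo_le _).trans (agemo_le _)
    obtain ⟨A, ⟨hAn, hMA, hAN, hAab⟩, hAmax⟩ :=
      (Set.toFinite {A : Subgroup X | A.Normal ∧ M ≤ A ∧ A ≤ N ∧ ⁅A, A⁆ ≤ M}).exists_maximal
        ⟨M, hMn, le_rfl, hMN, Subgroup.commutator_le_left M M⟩
    have hexp : ∀ a ∈ N, a ^ (p * p) ∈ M := fun a ha => by
      rw [pow_mul]; exact pow_mem_agemo (pow_mem_agemo ha)
    have hAV : ∀ v ∈ V, ∀ a ∈ A, ⁅v, a⁆ ∈ M := by
      intro v hv a ha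
      have h := Subgroup.mem_iInf.mp hv.2 (⟨(A, M), hAn, hMn, hMA, hAN.trans (hNV.trans hVP), hAab,
        fun a ha => hexp a (hAN ha)⟩ : Sec)
      haveI := hMn
      exact mem_of_commute_mk
        ((Subgroup.mem_centralizer_iff.mp h (a : X ⧸ M) ⟨a, ha, rfl⟩).symm)
    have hAN' : A = N := by
      by_contra hne
      haveI := hAn
      haveI := hN
      obtain ⟨x, hxN, hxA, hxc⟩ := exists_central_mod hX (lt_of_le_of_ne hAN hne)
      haveI := hMn
      set A' := A ⊔ Subgroup.zpowers x with hA'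
      have hA'N : A' ≤ N := sup_le hAN (Subgroup.zpowers_le.mpr hxN)
      have hA'n : A'.Normal := by
        refine ⟨fun z hz g => ?_⟩
        have hle : A' ≤ A'.comap (MulAut.conj g).toMonoidHom := by
          refine sup_le (fun a ha => Subgroup.mem_sup_left (hAn.conj_mem a ha g)) (Subgroup.zpowers_le.mpr ?_)
          show g * x * g⁻¹ ∈ A'
          rw [show g * x * g⁻¹ = ⁅g, x⁆ * x by rw [commutatorElement_def]; group]
          exact mul_mem (Subgroup.mem_sup_left (hxc g)) (Subgroup.mem_sup_right (Subgroup.mem_zpowers x))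
        exact hle hz
      have hA'ab : ⁅A', A'⁆ ≤ M := by
        rw [hA', ← Subgroup.closure_eq A, Subgroup.zpowers_eq_closure, ← Subgroup.closure_union]
        refine commutator_closure_le fun a ha b hb => ?_
        have hax : ∀ z ∈ (A : Set X) ∪ {x}, ⁅z, a⁆ ∈ M := by
          intro z hz
          rcases ha with ha | ha
          · rcases hz with hz | hz
            · exact hAab (Subgroup.commutator_mem_commutator hz ha)
            · rw [Set.mem_singleton_iff.mp hz]; exact hAV x (hNV hxN) a ha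
          · rw [Set.mem_singleton_iff.mp ha]
            rcases hz with hz | hz
            · rw [← inv_mem_iff, commutatorElement_inv]; exact hAV x (hNV hxN) z hz
            · rw [Set.mem_singleton_iff.mp hz, commutatorElement_self]; exact one_mem _
        have h := commutator_closure_le (B := Subgroup.zpowers a) (M := M) (s := (A : Set X) ∪ {x})
          fun z hz w hw => by
            obtain ⟨i, rfl⟩ := Subgroup.mem_zpowers_iff.mp hw
            refine mem_of_commute_mk ?_
            rw [QuotientGroup.mk_zpow]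
            exact (commute_mk_of_mem (hax z hz)).zpow_right i
        rw [← inv_mem_iff, commutatorElement_inv]
        exact h (Subgroup.commutator_mem_commutator hb (Subgroup.mem_zpowers a))
      exact hxA (hAmax ⟨hA'n, hMA.trans le_sup_left, hA'N, hA'ab⟩ le_sup_left
        (Subgroup.mem_sup_right (Subgroup.mem_zpowers x)))
    rw [Subgroup.commutator_comm, Subgroup.commutator_le]
    intro v hv a ha
    exact hAV v hv a (hAN' ▸ ha)
  · refine le_inf (dS_antitone hP (Nat.zero_le _)) (le_iInf fun s => ?_)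
    haveI hBn : s.1.2.Normal := s.2.2.1
    haveI hAn : (s.1.1.map (QuotientGroup.mk' s.1.2)).Normal :=
      Subgroup.Normal.map s.2.1 _ (QuotientGroup.mk'_surjective _)
    set Ab := s.1.1.map (QuotientGroup.mk' s.1.2)
    haveI : Group.IsNilpotent X := hX.isNilpotent
    let f : P →* Equiv.Perm Ab := (MulAut.toPerm Ab).comp
      ((MulAut.conjNormal (H := Ab)).comp ((QuotientGroup.mk' s.1.2).comp P.subtype))
    have hcard : Nat.card (Equiv.Perm Ab) ≤ (c ^ (2 * p)).factorial := by
      rw [Nat.card_perm]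
      refine Nat.factorial_le (le_trans (le_of_eq ?_)
        (relIndex_le ht s.2.1 s.2.2.1 s.2.2.2.1 s.2.2.2.2.2.1 s.2.2.2.2.2.2 (hc _ s.2.2.2.2.1)))
      rw [← Subgroup.relIndex_ker, QuotientGroup.ker_mk']
    have h := Subgroup.map_mono (f := P.subtype) (derivedSeries_le_ker f hcard)
    rw [← dS_range, Subgroup.range_subtype] at h
    refine h.trans ?_
    rintro _ ⟨v, hv, rfl⟩
    show ((v : X) : X ⧸ s.1.2) ∈ Subgroup.centralizer (Ab : Set (X ⧸ s.1.2))
    rw [Subgroup.mem_centralizer_iff]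
    intro a ha
    have h1 : (f v) ⟨a, ha⟩ = ⟨a, ha⟩ := by
      rw [show f v = 1 from hv]; rfl
    exact (mul_inv_eq_iff_eq_mul.mp (congrArg Subtype.val h1)).symm

end Cfsg.Agent.AlperinFix
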