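/-
Lie rings with an automorphism of prime order whose fixed points have exponent dividing `p ^ n`
(helper83).

Main results (namespace `Cfsg.Agent.AlperinFix`): `lieDer`, `lieDer_killed`.
-/
import Cfsg.Agent.Lib.FPFLie.Main

set_option autoImplicit false
set_option linter.style.haveILetI false

namespace Cfsg.Agent.AlperinFix

open FPFLie (Conv IsGr der eig proj emb coef)

variable {L : Type*} [LieRing L]

/-- The derived series of a Lie ring, as additive subgroups. -/
def lieDer (L : Type*) [LieRing L] : ℕ → AddSubgroup L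
  | 0 => ⊤
  | k + 1 => AddSubgroup.closure {z | ∃ x ∈ lieDer L k, ∃ y ∈ lieDer L k, ⁅x, y⁆ = z}

theorem lie_mem_lieDer {k : ℕ} {x y : L} (hx : x ∈ lieDer L k) (hy : y ∈ lieDer L k) :
    ⁅x, y⁆ ∈ lieDer L (k + 1) := AddSubgroup.subset_closure ⟨x, hx, y, hy, rfl⟩

variable {p : ℕ} [Fact p.Prime] (T : L →+ L)

theorem emb_eq_sum_of_trace (hTp : ∀ x, T^[p] x = x) (x : L) (hS : ∑ i : ZMod p, T^[i.val] x = 0) :
    emb (p := p) x = ∑ j ∈ Finset.univ.erase (0 : ZMod p), proj T j x := by
  classical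
  ext k
  show coef k • x = (∑ j ∈ Finset.univ.erase (0 : ZMod p), proj T j x : ZMod p → L) k
  erw [Finset.sum_apply]
  show coef k • x = ∑ j ∈ Finset.univ.erase (0 : ZMod p), T^[(-k * j⁻¹).val] x
  by_cases hk : k = 0
  · subst hk
    simp only [coef, if_true, neg_zero, zero_mul, ZMod.val_zero, Function.iterate_zero_apply, Finset.sum_const,
      Finset.card_erase_of_mem (Finset.mem_univ _), Finset.card_univ, ZMod.card]
    rw [← natCast_zsmul, Nat.cast_sub (Fact.out : p.Prime).one_le, Nat.cast_one]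
  · rw [Finset.sum_nbij' (fun j => -k * j⁻¹) (fun i => -k * i⁻¹) (t := Finset.univ.erase (0 : ZMod p))
      (g := fun i => T^[i.val] x), Finset.sum_erase_eq_sub (Finset.mem_univ _), hS, ZMod.val_zero,
      Function.iterate_zero_apply, zero_sub, coef, if_neg hk, zero_sub, neg_smul, one_smul]
    · intro j hj
      simpa [hk] using hj
    · intro j hj
      simpa [hk] using hj
    · intro j hj
      simp [mul_inv_rev, mul_comm, hk]
    · intro j hj
      simp [mul_inv_rev, mul_comm, hk]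
    · intros; rfl

theorem map_trace (hTp : ∀ x, T^[p] x = x) (x : L) :
    T (∑ i : ZMod p, T^[i.val] x) = ∑ i : ZMod p, T^[i.val] x := by
  rw [map_sum, ← Equiv.sum_comp (Equiv.addRight (1 : ZMod p)) (fun i => T^[i.val] x)]
  refine Finset.sum_congr rfl fun i _ => ?_
  rw [← Function.iterate_succ_apply' T, FPFLie.iterate_mod T hTp, Equiv.coe_addRight, ← ZMod.val_natCast]
  push_cast
  rw [ZMod.natCast_zmod_val]

theorem le_two_pow_pred (p : ℕ) : 2 ^ (p - 1) - 1 ≤ 2 ^ p :=
  (Nat.sub_le _ _).trans (Nat.pow_le_pow_right two_pos (Nat.sub_le _ _))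

/-- Alperin's Lie ring lemma. -/
theorem lieDer_killed {n : ℕ} (hT : ∀ x y, T ⁅x, y⁆ = ⁅T x, T y⁆) (hTp : ∀ x, T^[p] x = x)
    (hfix : ∀ x, T x = x → p ^ n • x = 0) {x : L} (hx : x ∈ lieDer L (2 ^ p)) :
    p ^ ((n + 1) * 2 ^ 2 ^ p) • x = 0 := by
  set E : ZMod p → AddSubgroup (Conv p L) := fun j => (eig T j).map (nsmulAddMonoidHom (p ^ n)) with hE
  have hgr : IsGr E := by
    rintro a b _ ⟨f, hf, rfl⟩ _ ⟨g, hg, rfl⟩
    refine ⟨p ^ n • ⁅f, g⁆, (eig T (a + b)).nsmul_mem (FPFLie.isGr_eig T hT a b f hf g hg) _, ?_⟩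
    show p ^ n • (p ^ n • ⁅f, g⁆) = ⁅p ^ n • f, p ^ n • g⁆
    rw [nsmul_lie, lie_nsmul]
  have hE0 : E 0 = ⊥ := by
    rw [eq_bot_iff]
    rintro _ ⟨f, hf, rfl⟩
    refine AddSubgroup.mem_bot.mpr (funext fun k => ?_)
    show p ^ n • f k = 0
    exact hfix _ ((hf k).trans (by rw [sub_zero]))
  have hder : ∀ i, der^[2 ^ p] E i = ⊥ := by
    intro i
    obtain ⟨d, hd⟩ := Nat.exists_eq_add_of_le (le_two_pow_pred p)
    refine le_bot_iff.mp ?_
    rw [hd, add_comm, Function.iterate_add_apply]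
    exact ((FPFLie.iterate_der _ (FPFLie.iterate_der E hgr _).1 d).2 i).trans (FPFLie.kreknin hgr hE0 i).le
  have main : ∀ s, ∀ x ∈ lieDer L s,
      ((p : ℤ) ^ ((n + 1) * 2 ^ s - 1)) • emb (p := p) x ∈ ⨆ i, der^[s] E i := by
    intro s
    induction s with
    | zero =>
      intro x _
      have hS : ∑ i : ZMod p, T^[i.val] (p ^ n • x) = 0 := by
        simp only [iterate_map_nsmul]
        rw [← Finset.smul_sum]
        exact hfix _ (map_trace T hTp x)
      have h1 : ((p : ℤ) ^ ((n + 1) * 2 ^ 0 - 1)) • emb (p := p) x = emb (p := p) (p ^ n • x) := by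
        funext k
        show ((p : ℤ) ^ ((n + 1) * 2 ^ 0 - 1)) • (coef k • x) = coef k • (p ^ n • x)
        rw [pow_zero, mul_one, Nat.add_sub_cancel, ← natCast_zsmul, Nat.cast_pow, smul_comm]
      rw [h1, emb_eq_sum_of_trace T hTp _ hS]
      refine sum_mem fun j hj => AddSubgroup.mem_iSup_of_mem j
        ⟨proj T j x, FPFLie.proj_mem T hTp (Finset.ne_of_mem_erase hj) x, ?_⟩
      funext k
      exact (iterate_map_nsmul T _ x (p ^ n)).symm
    | succ s ih =>
      intro z hz
      induction hz using AddSubgroup.closure_induction with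
      | mem z hz =>
        obtain ⟨x, hx, y, hy, rfl⟩ := hz
        have e : ((p : ℤ) ^ ((n + 1) * 2 ^ (s + 1) - 1)) • emb (p := p) ⁅x, y⁆ =
            ⁅((p : ℤ) ^ ((n + 1) * 2 ^ s - 1)) • emb (p := p) x,
              ((p : ℤ) ^ ((n + 1) * 2 ^ s - 1)) • emb (p := p) y⁆ := by
          rw [lie_zsmul, FPFLie.lie_emb, smul_smul]
          congr 1
          have h1 : 1 ≤ (n + 1) * 2 ^ s := Nat.mul_pos n.succ_pos (Nat.two_pow_pos s)
          rw [show (n + 1) * 2 ^ (s + 1) - 1 = ((n + 1) * 2 ^ s - 1) + (((n + 1) * 2 ^ s - 1) + 1) by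
            rw [pow_succ, ← mul_assoc]; omega, pow_add, pow_succ]
        rw [e]
        have hu := ih x hx
        have hv := ih y hy
        generalize ((p : ℤ) ^ ((n + 1) * 2 ^ s - 1)) • emb (p := p) x = u at hu ⊢
        generalize ((p : ℤ) ^ ((n + 1) * 2 ^ s - 1)) • emb (p := p) y = v at hv ⊢
        rw [Function.iterate_succ_apply']
        induction hu using AddSubgroup.iSup_induction' with
        | hp a u hu =>
          induction hv using AddSubgroup.iSup_induction' with
          | hp b v hv => exact AddSubgroup.mem_iSup_of_mem (a + b) (FPFLie.mem_brkFam hu hv)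
          | h1 => rw [lie_zero]; exact zero_mem _
          | hadd _ _ _ _ h3 h4 => rw [lie_add]; exact add_mem h3 h4
        | h1 => rw [zero_lie]; exact zero_mem _
        | hadd _ _ _ _ h3 h4 => rw [add_lie]; exact add_mem h3 h4
      | zero =>
        have : emb (p := p) (0 : L) = 0 := funext fun k => smul_zero _
        rw [this, smul_zero]
        exact zero_mem _
      | add a b _ _ h1 h2 =>
        have : emb (p := p) (a + b) = emb a + emb b := funext fun k => smul_add _ _ _
        rw [this, smul_add]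
        exact add_mem h1 h2
      | neg a _ h1 =>
        have : emb (p := p) (-a) = -emb a := funext fun k => smul_neg _ _
        rw [this, smul_neg]
        exact neg_mem h1
  have h := main (2 ^ p) x hx
  rw [iSup_congr hder, iSup_bot, AddSubgroup.mem_bot] at h
  have h1 : ((p : ℤ) ^ ((n + 1) * 2 ^ 2 ^ p - 1)) • (coef (1 : ZMod p) • x) = 0 := congrFun h 1
  rw [coef, if_neg one_ne_zero, zero_sub, neg_smul, one_smul, smul_neg, neg_eq_zero, ← Nat.cast_pow,
    natCast_zsmul] at h1
  rw [show (n + 1) * 2 ^ 2 ^ p = 1 + ((n + 1) * 2 ^ 2 ^ p - 1) from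
    (Nat.add_sub_cancel' (Nat.mul_pos n.succ_pos (Nat.two_pow_pos _))).symm, pow_add, mul_nsmul', h1,
    nsmul_zero]

end Cfsg.Agent.AlperinFix
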