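/-
Power maps between the layers `U_j = ℧^j V` of a good subgroup (helper83).

Main results (namespace `Cfsg.Agent.AlperinFix`): `Cg`, `Setup`, `Setup.pow_hom`, `Setup.pow_surj`,
`Setup.compat_left`, `Setup.compat_right`, `Setup.layer_le`, `Setup.mem_of_pow_mem`.
-/
import Cfsg.Agent.Lib.AlperinFix.Good

set_option autoImplicit false
set_option linter.style.haveILetI false
open scoped commutatorElement

namespace Cfsg.Agent.AlperinFix

variable {X : Type*} [Group X]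

/-- Congruence modulo a normal subgroup. -/
def Cg (M : Subgroup X) (x y : X) : Prop := x⁻¹ * y ∈ M

namespace Cg

variable {M M' : Subgroup X} {x x' y y' z : X}

theorem refl (x : X) : Cg M x x := by
  show x⁻¹ * x ∈ M
  rw [inv_mul_cancel]; exact one_mem M

theorem symm (h : Cg M x y) : Cg M y x := by
  have := M.inv_mem h
  rwa [mul_inv_rev, inv_inv] at this

theorem trans (h : Cg M x y) (h' : Cg M y z) : Cg M x z := by
  have := M.mul_mem h h'
  rwa [mul_assoc, mul_inv_cancel_left] at this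

theorem mono (h : Cg M x y) (hle : M ≤ M') : Cg M' x y := hle h

theorem mem_iff {H : Subgroup X} (h : Cg M x y) (hle : M ≤ H) : x ∈ H ↔ y ∈ H := by
  constructor
  · intro hx
    rw [show y = x * (x⁻¹ * y) by group]
    exact mul_mem hx (hle h)
  · intro hy
    rw [show x = y * (x⁻¹ * y)⁻¹ by group]
    exact mul_mem hy (inv_mem (hle h))

theorem mk_iff [M.Normal] : Cg M x y ↔ (x : X ⧸ M) = y := QuotientGroup.eq.symm

theorem mul (hM : M.Normal) (h : Cg M x x') (h' : Cg M y y') : Cg M (x * y) (x' * y') := by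
  haveI := hM
  rw [mk_iff, QuotientGroup.mk_mul, QuotientGroup.mk_mul, mk_iff.mp h, mk_iff.mp h']

theorem inv (hM : M.Normal) (h : Cg M x x') : Cg M x⁻¹ x'⁻¹ := by
  haveI := hM
  rw [mk_iff, QuotientGroup.mk_inv, QuotientGroup.mk_inv, mk_iff.mp h]

theorem pow (hM : M.Normal) (h : Cg M x x') (m : ℕ) : Cg M (x ^ m) (x' ^ m) := by
  haveI := hM
  rw [mk_iff, QuotientGroup.mk_pow, QuotientGroup.mk_pow, mk_iff.mp h]

theorem comm (hM : M.Normal) (h : Cg M x x') (h' : Cg M y y') : Cg M ⁅x, y⁆ ⁅x', y'⁆ :=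
  ((h.mul hM h').mul hM (h.inv hM)).mul hM (h'.inv hM)

theorem conj (hM : M.Normal) (h : Cg M x x') (g : X) : Cg M (g * x * g⁻¹) (g * x' * g⁻¹) :=
  ((Cg.refl g).mul hM h).mul hM (Cg.refl g⁻¹)

theorem one_iff : Cg M 1 x ↔ x ∈ M := by
  show 1⁻¹ * x ∈ M ↔ x ∈ M
  rw [inv_one, one_mul]

end Cg

/-- A good normal subgroup of a finite `p`-group. -/
structure Setup (p : ℕ) (V : Subgroup X) : Prop where
  prime : p.Prime
  isP : IsPGroup p X
  normal : V.Normal
  good : Good p V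

namespace Setup

variable {p : ℕ} {V : Subgroup X} (S : Setup p V)

local notation "U" => agIter p V

include S

theorem nU (j : ℕ) : (U j).Normal := agIter_normal S.normal j

variable [Finite X]

theorem comm_mem {i j l : ℕ} {x y : X} (hx : x ∈ U i) (hy : y ∈ U j) (hl : l ≤ i + j + 2) :
    ⁅x, y⁆ ∈ U l :=
  haveI := Fact.mk S.prime
  agIter_antitone V hl (S.good.comm_agIter_le S.isP S.normal i j (Subgroup.commutator_mem_commutator hx hy))

theorem derived_layer (j : ℕ) : ⁅U j, U j⁆ ≤ U (j + 1) :=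
  Subgroup.commutator_le.mpr fun _ hx _ hy => S.comm_mem hx hy (by omega)

theorem dS_le_add (j : ℕ) : ∀ d, dS (U j) d ≤ U (j + d)
  | 0 => le_rfl
  | d + 1 => (Subgroup.commutator_mono (dS_le_add j d) (dS_le_add j d)).trans (S.derived_layer _)

theorem pow_hom_one {b i : ℕ} {x y : X} (hi : i ≤ b + 1) (hx : x ∈ U b) (hy : y ∈ U b) :
    Cg (U (b + 1 + i)) ((x * y) ^ p) (x ^ p * y ^ p) := by
  haveI := S.nU (b + 1 + i)
  rw [Cg.mk_iff, QuotientGroup.mk_mul, QuotientGroup.mk_pow, QuotientGroup.mk_pow, QuotientGroup.mk_pow,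
    QuotientGroup.mk_mul]
  exact (commute_mk_of_mem (S.comm_mem hx hy (by omega))).mul_pow p

theorem pow_congr_one {b i : ℕ} {x x' : X} (hi : i ≤ b + 1) (hx : x ∈ U b) (h : Cg (U (b + i)) x x') :
    Cg (U (b + 1 + i)) (x ^ p) (x' ^ p) := by
  have hz : x⁻¹ * x' ∈ U b := agIter_antitone V (Nat.le_add_right b i) h
  have h1 := S.pow_hom_one hi hx hz
  rw [mul_inv_cancel_left] at h1
  have h2 : (x⁻¹ * x') ^ p ∈ U (b + 1 + i) := by
    rw [show b + 1 + i = b + i + 1 by omega]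
    exact pow_mem_agemo h
  refine (Cg.trans ?_ h1.symm)
  show (x ^ p)⁻¹ * (x ^ p * (x⁻¹ * x') ^ p) ∈ U (b + 1 + i)
  rwa [inv_mul_cancel_left]

theorem pow_mem {b : ℕ} {x : X} (hx : x ∈ U b) (s : ℕ) : x ^ p ^ s ∈ U (b + s) := by
  rw [agIter_add]
  exact pow_mem_agIter hx s

theorem pow_congr {b i : ℕ} {x x' : X} (hi : i ≤ b + 1) (hx : x ∈ U b) (h : Cg (U (b + i)) x x') :
    ∀ s, Cg (U (b + s + i)) (x ^ p ^ s) (x' ^ p ^ s)
  | 0 => by simpa using h
  | s + 1 => by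
    rw [pow_succ, pow_mul, pow_mul]
    exact S.pow_congr_one (b := b + s) (by omega) (S.pow_mem hx s) (pow_congr hi hx h s)

theorem pow_hom {b i : ℕ} {x y : X} (hi : i ≤ b + 1) (hx : x ∈ U b) (hy : y ∈ U b) :
    ∀ s, Cg (U (b + s + i)) ((x * y) ^ p ^ s) (x ^ p ^ s * y ^ p ^ s)
  | 0 => by simp only [pow_zero, pow_one]; exact Cg.refl _
  | s + 1 => by
    rw [pow_succ, pow_mul, pow_mul, pow_mul]
    exact (S.pow_congr_one (b := b + s) (by omega) (S.pow_mem (mul_mem hx hy) s) (pow_hom hi hx hy s)).trans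
      (S.pow_hom_one (b := b + s) (by omega) (S.pow_mem hx s) (S.pow_mem hy s))

theorem pow_surj_one {b i : ℕ} {w : X} (hi : i ≤ b + 1) (hw : w ∈ U (b + 1)) :
    ∃ x ∈ U b, Cg (U (b + 1 + i)) w (x ^ p) := by
  induction hw using Subgroup.closure_induction with
  | mem z hz =>
    obtain ⟨x, hx, rfl⟩ := hz
    exact ⟨x, hx, Cg.refl _⟩
  | one => exact ⟨1, one_mem _, by rw [one_pow]; exact Cg.refl _⟩
  | mul _ _ _ _ ih ih' =>
    obtain ⟨x, hx, h⟩ := ih
    obtain ⟨y, hy, h'⟩ := ih'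
    exact ⟨x * y, mul_mem hx hy, (h.mul (S.nU _) h').trans (S.pow_hom_one hi hx hy).symm⟩
  | inv _ _ ih =>
    obtain ⟨x, hx, h⟩ := ih
    exact ⟨x⁻¹, inv_mem hx, by rw [inv_pow]; exact h.inv (S.nU _)⟩

theorem pow_surj {b i : ℕ} (hi : i ≤ b + 1) : ∀ (s : ℕ) {w : X}, w ∈ U (b + s) →
    ∃ x ∈ U b, Cg (U (b + s + i)) w (x ^ p ^ s)
  | 0, w, hw => ⟨w, hw, by simp only [pow_zero, pow_one]; exact Cg.refl _⟩
  | s + 1, w, hw => by
    obtain ⟨y, hy, h⟩ := S.pow_surj_one (b := b + s) (i := i) (by omega) hw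
    obtain ⟨x, hx, h'⟩ := pow_surj hi s hy
    refine ⟨x, hx, ?_⟩
    rw [pow_succ, pow_mul]
    exact h.trans (S.pow_congr_one (b := b + s) (by omega) hy h')

theorem compat_left {a b i : ℕ} {x y : X} (hi : i ≤ a) (hx : x ∈ U a) (hy : y ∈ U b) :
    ∀ s, Cg (U (a + b + s + i)) ⁅x ^ p ^ s, y⁆ (⁅x, y⁆ ^ p ^ s)
  | 0 => by simp only [pow_zero, pow_one]; exact Cg.refl _
  | s + 1 => by
    haveI := S.nU (a + b + (s + 1) + i)
    have hx' := S.pow_mem hx s
    have h1 : ⁅x ^ p ^ s, y⁆ ∈ U (a + s + b + 2) := S.comm_mem hx' hy le_rfl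
    rw [pow_succ, pow_mul, pow_mul]
    have h2 : Cg (U (a + b + (s + 1) + i)) ⁅(x ^ p ^ s) ^ p, y⁆ (⁅x ^ p ^ s, y⁆ ^ p) :=
      Cg.mk_iff.mpr (mk_commutator_pow (S.comm_mem h1 hx' (by omega)) p)
    refine h2.trans ?_
    exact (S.pow_congr_one (b := a + b + s) (by omega) (agIter_antitone V (by omega) h1)
      (compat_left hi hx hy s)).mono (agIter_antitone V (by omega))

theorem compat_right {a b i : ℕ} {x y : X} (hi : i ≤ b) (hx : x ∈ U a) (hy : y ∈ U b) (s : ℕ) :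
    Cg (U (a + b + s + i)) ⁅x, y ^ p ^ s⁆ (⁅x, y⁆ ^ p ^ s) := by
  have h := (S.compat_left hi hy hx s).inv (S.nU _)
  rw [commutatorElement_inv, ← inv_pow, commutatorElement_inv, show b + a = a + b by omega] at h
  exact h

/-- The order of a layer. -/
noncomputable abbrev layer (p : ℕ) (V : Subgroup X) (j : ℕ) : ℕ :=
  Nat.card (agIter p V j ⧸ (agIter p V (j + 1)).subgroupOf (agIter p V j))

/-- The `p`-th power map between consecutive layers. -/
theorem layer_map (b : ℕ) : ∃ f : (U b ⧸ (U (b + 1)).subgroupOf (U b)) →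
    (U (b + 1) ⧸ (U (b + 1 + 1)).subgroupOf (U (b + 1))), Function.Surjective f ∧
      ∀ x : U b, f (x : U b ⧸ _) = ((⟨(x : X) ^ p, pow_mem_agemo x.2⟩ : U (b + 1)) : U (b + 1) ⧸ _) := by
  refine ⟨fun q => Quotient.liftOn' q
    (fun x : U b => ((⟨(x : X) ^ p, pow_mem_agemo x.2⟩ : U (b + 1)) : U (b + 1) ⧸ _)) ?_, ?_, fun x => rfl⟩
  · intro x x' hxx'
    rw [QuotientGroup.leftRel_apply, Subgroup.mem_subgroupOf] at hxx'
    rw [QuotientGroup.eq, Subgroup.mem_subgroupOf]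
    exact S.pow_congr_one (i := 1) (by omega) x.2 hxx'
  · intro q
    induction q using QuotientGroup.induction_on with
    | _ w =>
      obtain ⟨x, hx, h⟩ := S.pow_surj_one (i := 1) (by omega) w.2
      refine ⟨((⟨x, hx⟩ : U b) : U b ⧸ _), ?_⟩
      show ((⟨x ^ p, pow_mem_agemo hx⟩ : U (b + 1)) : U (b + 1) ⧸ (U (b + 1 + 1)).subgroupOf (U (b + 1))) = _
      rw [QuotientGroup.eq, Subgroup.mem_subgroupOf]
      exact h.symm

theorem layer_le (b : ℕ) : layer p V (b + 1) ≤ layer p V b := by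
  obtain ⟨f, hf, -⟩ := S.layer_map b
  exact Nat.card_le_card_of_surjective f hf

/-- The layers have constant order below `e`. -/
def Uniform (p : ℕ) (V : Subgroup X) (e : ℕ) : Prop := ∀ j, j + 1 < e → layer p V (j + 1) = layer p V j

variable {e : ℕ}

theorem mem_of_pow_mem_one (hu : Uniform p V e) {b : ℕ} (hb : b + 2 ≤ e) {x : X} (hx : x ∈ U b)
    (hxp : x ^ p ∈ U (b + 2)) : x ∈ U (b + 1) := by
  obtain ⟨f, hf, hfx⟩ := S.layer_map b
  have hbij : Function.Bijective f :=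
    (Nat.bijective_iff_surjective_and_card f).mpr ⟨hf, (hu b (by omega)).symm⟩
  have h1 : f ((⟨x, hx⟩ : U b) : U b ⧸ _) = f ((1 : U b) : U b ⧸ _) := by
    rw [hfx, hfx, QuotientGroup.eq, Subgroup.mem_subgroupOf]
    have h2 : (x ^ p)⁻¹ * (1 : X) ^ p ∈ U (b + 1 + 1) := by
      rw [one_pow, mul_one]; exact inv_mem hxp
    exact h2
  have h3 := QuotientGroup.eq.mp (hbij.1 h1)
  rw [Subgroup.mem_subgroupOf] at h3
  have h4 : x⁻¹ * 1 ∈ U (b + 1) := h3
  rwa [mul_one, inv_mem_iff] at h4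

theorem mem_succ_of_pow_mem (hu : Uniform p V e) {b : ℕ} {x : X} (hx : x ∈ U b) :
    ∀ s, b + s + 1 ≤ e → x ^ p ^ s ∈ U (b + s + 1) → x ∈ U (b + 1)
  | 0, _, h => by simpa using h
  | s + 1, hs, h => by
    rw [pow_succ, pow_mul] at h
    exact mem_succ_of_pow_mem hu hx s (by omega) (S.mem_of_pow_mem_one hu (by omega) (S.pow_mem hx s) h)

theorem mem_of_pow_mem (hu : Uniform p V e) {b s : ℕ} {x : X} (hx : x ∈ U b) :
    ∀ i, b + s + i ≤ e → x ^ p ^ s ∈ U (b + s + i) → x ∈ U (b + i)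
  | 0, _, _ => hx
  | i + 1, hi, h => by
    have h1 := mem_of_pow_mem hu hx i (by omega) (agIter_antitone V (by omega) h)
    refine S.mem_succ_of_pow_mem (b := b + i) hu h1 s (by omega) ?_
    rw [show b + i + s + 1 = b + s + (i + 1) by omega]
    exact h

end Setup

end Cfsg.Agent.AlperinFix
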