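/-
The Lie ring on `U_i / U_{2i}` of a uniform good subgroup (helper83).

Main results (namespace `Cfsg.Agent.AlperinFix`): `LieData`, `LieData.Mod`, `LieData.cls`, `LieData.lie_cls`,
`LieData.pow_mem_of_mem_lieDer`.
-/
import Cfsg.Agent.Lib.AlperinFix.Powers
import Cfsg.Agent.Lib.AlperinFix.Lie

set_option autoImplicit false
set_option linter.style.haveILetI false
open scoped commutatorElement

namespace Cfsg.Agent.AlperinFix

variable {X : Type*} [Group X] [Finite X] {p : ℕ} {V : Subgroup X}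

local notation "U" => agIter p V

namespace Setup

variable (S : Setup p V)

include S

theorem comm_congr_left {a b l : ℕ} {x z y : X} (hz : z ∈ U a) (hy : y ∈ U b) (hl : l ≤ a + b + 2) :
    Cg (U l) ⁅x * z, y⁆ ⁅x, y⁆ := by
  haveI := S.nU l
  rw [Cg.mk_iff, show ⁅x * z, y⁆ = x * ⁅z, y⁆ * x⁻¹ * ⁅x, y⁆ by simp only [commutatorElement_def]; group,
    QuotientGroup.mk_mul, QuotientGroup.mk_mul, QuotientGroup.mk_mul,
    (QuotientGroup.eq_one_iff _).mpr (S.comm_mem hz hy hl), mul_one, ← QuotientGroup.mk_mul,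
    mul_inv_cancel, QuotientGroup.mk_one, one_mul]

theorem comm_congr {a b l : ℕ} {x x' y y' : X} (hy : y ∈ U b) (hx : x' ∈ U b) (h : Cg (U a) x x')
    (h' : Cg (U a) y y') (hl : l ≤ a + b + 2) : Cg (U l) ⁅x', y'⁆ ⁅x, y⁆ := by
  have h1 := S.comm_congr_left (x := x) h hy hl
  rw [mul_inv_cancel_left] at h1
  have h2 := (S.comm_congr_left (x := y) h' hx hl).inv (S.nU l)
  rw [mul_inv_cancel_left, commutatorElement_inv, commutatorElement_inv] at h2
  exact h2.trans h1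

theorem pow_cancel {e b s i : ℕ} (hu : Uniform p V e) {v v' : X} (hv : v ∈ U b) (hv' : v' ∈ U b) (hi : i ≤ b + 1)
    (hle : b + s + i ≤ e) (h : Cg (U (b + s + i)) (v ^ p ^ s) (v' ^ p ^ s)) : Cg (U (b + i)) v v' := by
  refine S.mem_of_pow_mem hu (mul_mem (inv_mem hv) hv') i hle ?_
  have h1 := (S.pow_hom (i := i) hi (inv_mem hv) hv' s)
  rw [inv_pow] at h1
  exact (h1.mem_iff le_rfl).mpr h

theorem jacobi {i : ℕ} {x y z : X} (hx : x ∈ U i) (hy : y ∈ U i) (hz : z ∈ U i) :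
    Cg (U (i + i + i + i)) ⁅x, ⁅y, z⁆⁆ (⁅y, ⁅x, z⁆⁆ * ⁅⁅x, y⁆, z⁆) := by
  haveI := S.nU (i + i + i + i)
  have ha := S.comm_mem (l := i + i + 2) hx hy le_rfl
  have hb := S.comm_mem (l := i + i + 2) hx hz le_rfl
  have hc := S.comm_mem (l := i + i + 2) hy hz le_rfl
  have hyb := S.comm_mem (l := i + i + i + 4) hy hb (by omega)
  have haz := S.comm_mem (l := i + i + i + 4) ha hz (by omega)
  have cm : ∀ {j k : ℕ} {g h : X}, g ∈ U j → h ∈ U k → i + i + i + i ≤ j + k + 2 →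
      Commute (g : X ⧸ U (i + i + i + i)) (h : X ⧸ U (i + i + i + i)) :=
    fun hg hh hl => commute_mk_of_mem (S.comm_mem hg hh hl)
  rw [Cg.mk_iff]
  let π := QuotientGroup.mk' (U (i + i + i + i))
  show π ⁅x, ⁅y, z⁆⁆ = π (⁅y, ⁅x, z⁆⁆ * ⁅⁅x, y⁆, z⁆)
  rw [map_mul]
  simp only [map_commutatorElement]
  refine FPFLie.jacobi_eq ?_ rfl ?_ ?_ ?_ ?_ ?_ ?_
  · simp only [commutatorElement_def]; group
  all_goals simp only [← map_commutatorElement]
  · exact cm hb hc (by omega)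
  · exact cm ha hc (by omega)
  · exact cm ha hyb (by omega)
  · exact cm hb haz (by omega)
  · exact (QuotientGroup.eq_one_iff _).mpr (S.comm_mem ha hb (by omega))
  · exact cm hc haz (by omega)

theorem double {i : ℕ} {x u w v : X} (hx : x ∈ U i) (hu : u ∈ U (i + i)) (hw : w ∈ U i)
    (h1 : Cg (U (i + i + i)) u (w ^ p ^ i)) (h2 : Cg (U (i + i + i)) ⁅x, w⁆ (v ^ p ^ i)) :
    Cg (U (i + i + i + i)) ⁅x, u⁆ (v ^ p ^ (i + i)) := by
  have h3 : Cg (U (i + i + i + i)) ⁅x, u⁆ ⁅x, w ^ p ^ i⁆ :=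
    (S.comm_congr (a := i + i + i) (b := i) (agIter_antitone V (by omega) hu) hx (Cg.refl x) h1 (by omega)).symm
  refine h3.trans ((S.compat_right le_rfl hx hw i).trans ?_)
  rw [pow_add, pow_mul]
  exact S.pow_congr (b := i + i) (by omega) (S.comm_mem hx hw (by omega)) h2 i

end Setup

/-- The data from which the Lie ring is built. -/
structure LieData (p : ℕ) (V : Subgroup X) (e i : ℕ) : Prop where
  setup : Setup p V
  uniform : Setup.Uniform p V e
  four : 4 * i ≤ e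

namespace LieData

variable {e i : ℕ}

/-- The underlying module. -/
def Mod (_D : LieData p V e i) : Type _ := Additive (U i ⧸ (U (i + i)).subgroupOf (U i))

variable (D : LieData p V e i)

noncomputable instance : AddCommGroup D.Mod :=
  haveI : ((U (i + i)).subgroupOf (U i)).Normal := Subgroup.Normal.comap (D.setup.nU _) _
  letI : CommGroup (U i ⧸ (U (i + i)).subgroupOf (U i)) :=
    { (inferInstance : Group (U i ⧸ (U (i + i)).subgroupOf (U i))) with
      mul_comm := fun x y => by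
        induction x using QuotientGroup.induction_on with
        | _ x =>
          induction y using QuotientGroup.induction_on with
          | _ y =>
            rw [← QuotientGroup.mk_mul, ← QuotientGroup.mk_mul, QuotientGroup.eq, Subgroup.mem_subgroupOf]
            push_cast
            rw [show ((x : X) * y)⁻¹ * (y * x) = ⁅(y : X)⁻¹, (x : X)⁻¹⁆ by rw [commutatorElement_def]; group]
            exact D.setup.comm_mem ((U i).inv_mem y.2) ((U i).inv_mem x.2) (by omega) }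
  inferInstanceAs (AddCommGroup (Additive (U i ⧸ (U (i + i)).subgroupOf (U i))))

open Classical in
/-- The class of an element of `U i`. -/
noncomputable def cls (x : X) : D.Mod :=
  if h : x ∈ U i then Additive.ofMul ((⟨x, h⟩ : U i) : U i ⧸ (U (i + i)).subgroupOf (U i)) else 0

theorem cls_def {x : X} (h : x ∈ U i) :
    D.cls x = Additive.ofMul ((⟨x, h⟩ : U i) : U i ⧸ (U (i + i)).subgroupOf (U i)) := dif_pos h

theorem cls_mul {x y : X} (hx : x ∈ U i) (hy : y ∈ U i) : D.cls (x * y) = D.cls x + D.cls y := by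
  rw [D.cls_def hx, D.cls_def hy, D.cls_def (mul_mem hx hy)]
  rfl

theorem cls_eq_iff {x y : X} (hx : x ∈ U i) (hy : y ∈ U i) : D.cls x = D.cls y ↔ Cg (U (i + i)) x y := by
  rw [D.cls_def hx, D.cls_def hy]
  constructor
  · intro h
    exact Subgroup.mem_subgroupOf.mp (QuotientGroup.eq.mp (Additive.ofMul.injective h))
  · intro h
    exact congrArg Additive.ofMul (QuotientGroup.eq.mpr (Subgroup.mem_subgroupOf.mpr h))

theorem cls_one : D.cls 1 = 0 := by
  have h := D.cls_mul (one_mem (U i)) (one_mem (U i))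
  rwa [one_mul, left_eq_add] at h

theorem cls_inv {x : X} (hx : x ∈ U i) : D.cls x⁻¹ = -D.cls x := by
  rw [eq_neg_iff_add_eq_zero, ← D.cls_mul (inv_mem hx) hx, inv_mul_cancel, D.cls_one]

theorem cls_pow {x : X} (hx : x ∈ U i) (m : ℕ) : D.cls (x ^ m) = m • D.cls x := by
  induction m with
  | zero => rw [pow_zero, D.cls_one, zero_nsmul]
  | succ m ih => rw [pow_succ, D.cls_mul (pow_mem hx m) hx, ih, succ_nsmul]

theorem exists_cls (a : D.Mod) : ∃ x ∈ U i, D.cls x = a :=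
  ⟨(Additive.toMul (α := U i ⧸ (U (i + i)).subgroupOf (U i)) a).out,
    (Additive.toMul (α := U i ⧸ (U (i + i)).subgroupOf (U i)) a).out.2,
    (D.cls_def _).trans (congrArg Additive.ofMul (QuotientGroup.out_eq' _))⟩

/-- A representative. -/
noncomputable def rep (a : D.Mod) : X := (D.exists_cls a).choose

theorem rep_mem (a : D.Mod) : D.rep a ∈ U i := (D.exists_cls a).choose_spec.1

theorem cls_rep (a : D.Mod) : D.cls (D.rep a) = a := (D.exists_cls a).choose_spec.2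

include D in
theorem exists_w (x y : X) : ∃ w, x ∈ U i → y ∈ U i →
    w ∈ U i ∧ Cg (U (i + i + i)) ⁅x, y⁆ (w ^ p ^ i) := by
  by_cases h : x ∈ U i ∧ y ∈ U i
  · obtain ⟨w, hw, hw'⟩ := D.setup.pow_surj (b := i) (i := i) (by omega) i (w := ⁅x, y⁆)
      (D.setup.comm_mem h.1 h.2 (by omega))
    exact ⟨w, fun _ _ => ⟨hw, hw'⟩⟩
  · exact ⟨1, fun hx hy => absurd ⟨hx, hy⟩ h⟩

noncomputable instance : Bracket D.Mod D.Mod :=
  ⟨fun a b => D.cls (D.exists_w (D.rep a) (D.rep b)).choose⟩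

/-- The bracket of two classes. -/
theorem lie_cls {x y w : X} (hx : x ∈ U i) (hy : y ∈ U i) (hw : w ∈ U i)
    (h : Cg (U (i + i + i)) ⁅x, y⁆ (w ^ p ^ i)) : ⁅D.cls x, D.cls y⁆ = D.cls w := by
  obtain ⟨h1, h2⟩ := (D.exists_w (D.rep (D.cls x)) (D.rep (D.cls y))).choose_spec (D.rep_mem _) (D.rep_mem _)
  refine (D.cls_eq_iff h1 hw).mpr ?_
  refine D.setup.pow_cancel D.uniform (s := i) h1 hw (by omega) (by have := D.four; omega) ?_
  refine h2.symm.trans (Cg.trans ?_ h)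
  exact D.setup.comm_congr (a := i + i) (b := i) hy (D.rep_mem _)
    ((D.cls_eq_iff hx (D.rep_mem _)).mp (D.cls_rep _).symm)
    ((D.cls_eq_iff hy (D.rep_mem _)).mp (D.cls_rep _).symm) (by omega)

theorem exists_lie (a b : D.Mod) : ∃ x y w, x ∈ U i ∧ y ∈ U i ∧ w ∈ U i ∧ D.cls x = a ∧ D.cls y = b ∧
    Cg (U (i + i + i)) ⁅x, y⁆ (w ^ p ^ i) ∧ ⁅a, b⁆ = D.cls w := by
  obtain ⟨h1, h2⟩ := (D.exists_w (D.rep a) (D.rep b)).choose_spec (D.rep_mem _) (D.rep_mem _)
  exact ⟨_, _, _, D.rep_mem a, D.rep_mem b, h1, D.cls_rep a, D.cls_rep b, h2, rfl⟩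

theorem skew (a b : D.Mod) : ⁅b, a⁆ = -⁅a, b⁆ := by
  obtain ⟨x, y, w, hx, hy, hw, rfl, rfl, h, he⟩ := D.exists_lie a b
  rw [he, ← D.cls_inv hw]
  refine D.lie_cls hy hx (inv_mem hw) ?_
  have h' := h.inv (D.setup.nU _)
  rwa [commutatorElement_inv, ← inv_pow] at h'

theorem add_left (a b c : D.Mod) : ⁅a + b, c⁆ = ⁅a, c⁆ + ⁅b, c⁆ := by
  obtain ⟨x, z, w, hx, hz, hw, rfl, rfl, h, he⟩ := D.exists_lie a c
  obtain ⟨y, z', w', hy, hz', hw', rfl, hzz, h', he'⟩ := D.exists_lie b (D.cls z)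
  rw [he, he', ← D.cls_mul hx hy, ← D.cls_mul hw hw']
  refine D.lie_cls (mul_mem hx hy) hz (mul_mem hw hw') ?_
  haveI := D.setup.nU (i + i + i)
  have h'' : Cg (U (i + i + i)) ⁅y, z⁆ (w' ^ p ^ i) :=
    (D.setup.comm_congr (a := i + i) (b := i) hz' hy (Cg.refl y) ((D.cls_eq_iff hz' hz).mp hzz)
      (by omega)).trans h'
  refine Cg.trans ?_ (D.setup.pow_hom (b := i) (i := i) (by omega) hw hw' i).symm
  refine Cg.trans ?_ (h.mul (D.setup.nU _) h'')
  have hc1 := D.setup.comm_mem (l := i + i + 2) hx hz le_rfl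
  have hc2 := D.setup.comm_mem (l := i + i + 2) hy hz le_rfl
  have k1 : Commute (x : X ⧸ U (i + i + i)) ((⁅y, z⁆ : X) : X ⧸ U (i + i + i)) :=
    commute_mk_of_mem (D.setup.comm_mem hx hc2 (by omega))
  have k2 : Commute ((⁅y, z⁆ : X) : X ⧸ U (i + i + i)) ((⁅x, z⁆ : X) : X ⧸ U (i + i + i)) :=
    commute_mk_of_mem (D.setup.comm_mem hc2 hc1 (by omega))
  rw [Cg.mk_iff, show ⁅x * y, z⁆ = x * ⁅y, z⁆ * x⁻¹ * ⁅x, z⁆ by simp only [commutatorElement_def]; group,
    QuotientGroup.mk_mul, QuotientGroup.mk_mul, QuotientGroup.mk_mul, k1.eq, QuotientGroup.mk_inv,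
    mul_inv_cancel_right, k2.eq, QuotientGroup.mk_mul]

theorem self (a : D.Mod) : ⁅a, a⁆ = 0 := by
  obtain ⟨x, hx, rfl⟩ := D.exists_cls a
  rw [← D.cls_one]
  refine D.lie_cls hx hx (one_mem _) ?_
  rw [commutatorElement_self, one_pow]
  exact Cg.refl _

theorem leibniz (a b c : D.Mod) : ⁅a, ⁅b, c⁆⁆ = ⁅⁅a, b⁆, c⁆ + ⁅b, ⁅a, c⁆⁆ := by
  obtain ⟨x, hx, rfl⟩ := D.exists_cls a
  obtain ⟨y, hy, rfl⟩ := D.exists_cls b
  obtain ⟨z, hz, rfl⟩ := D.exists_cls c
  have wit : ∀ {g h : X}, g ∈ U i → h ∈ U i →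
      ∃ w ∈ U i, Cg (U (i + i + i)) ⁅g, h⁆ (w ^ p ^ i) ∧ ⁅D.cls g, D.cls h⁆ = D.cls w := fun {g h} hg hh =>
    ⟨_, ((D.exists_w g h).choose_spec hg hh).1, ((D.exists_w g h).choose_spec hg hh).2,
      D.lie_cls hg hh ((D.exists_w g h).choose_spec hg hh).1 ((D.exists_w g h).choose_spec hg hh).2⟩
  obtain ⟨wa, hwa, ha, hea⟩ := wit hx hy
  obtain ⟨wb, hwb, hb, heb⟩ := wit hx hz
  obtain ⟨wc, hwc, hc, hec⟩ := wit hy hz
  obtain ⟨v1, hv1, h1, he1⟩ := wit hx hwc
  obtain ⟨v2, hv2, h2, he2⟩ := wit hy hwb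
  obtain ⟨v3, hv3, h3, he3⟩ := wit hz hwa
  rw [hec, heb, hea, he1, he2, D.skew (D.cls z) (D.cls wa), he3, add_comm, ← D.cls_inv hv3,
    ← D.cls_mul hv2 (inv_mem hv3), D.cls_eq_iff hv1 (mul_mem hv2 (inv_mem hv3))]
  refine D.setup.pow_cancel D.uniform (s := i + i) hv1 (mul_mem hv2 (inv_mem hv3)) (by omega)
    (by have := D.four; omega) ?_
  have d1 := D.setup.double hx (D.setup.comm_mem hy hz (by omega)) hwc hc h1
  have d2 := D.setup.double hy (D.setup.comm_mem hx hz (by omega)) hwb hb h2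
  have d3 := (D.setup.double hz (D.setup.comm_mem hx hy (by omega)) hwa ha h3).inv (D.setup.nU _)
  rw [commutatorElement_inv, ← inv_pow] at d3
  have h5 := d1.symm.trans ((D.setup.jacobi hx hy hz).trans (d2.mul (D.setup.nU _) d3))
  have h4 := (D.setup.pow_hom (b := i) (i := i) (by omega) hv2 (inv_mem hv3) (i + i)).symm
  rw [show i + (i + i) + i = i + i + i + i by omega] at h4 ⊢
  exact h5.trans h4

noncomputable instance : LieRing D.Mod where
  add_lie := D.add_left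
  lie_add a b c := by rw [D.skew (b + c), D.add_left, neg_add, ← D.skew, ← D.skew]
  lie_self := D.self
  leibniz_lie := D.leibniz

/-- The map induced by conjugation. -/
noncomputable def conjMap (t : X) : D.Mod →+ D.Mod :=
  AddMonoidHom.mk' (fun a => D.cls (t * D.rep a * t⁻¹)) fun a b => by
    have hn := D.setup.nU i
    rw [← D.cls_mul (hn.conj_mem _ (D.rep_mem a) t) (hn.conj_mem _ (D.rep_mem b) t),
      show t * D.rep a * t⁻¹ * (t * D.rep b * t⁻¹) = t * (D.rep a * D.rep b) * t⁻¹ by group,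
      D.cls_eq_iff (hn.conj_mem _ (D.rep_mem _) t) (hn.conj_mem _ (mul_mem (D.rep_mem a) (D.rep_mem b)) t)]
    refine Cg.conj (D.setup.nU _) ((D.cls_eq_iff (D.rep_mem _) (mul_mem (D.rep_mem a) (D.rep_mem b))).mp ?_) t
    rw [D.cls_rep, D.cls_mul (D.rep_mem a) (D.rep_mem b), D.cls_rep, D.cls_rep]

theorem conjMap_cls (t : X) {x : X} (hx : x ∈ U i) : D.conjMap t (D.cls x) = D.cls (t * x * t⁻¹) := by
  refine (D.cls_eq_iff ((D.setup.nU i).conj_mem _ (D.rep_mem _) t) ((D.setup.nU i).conj_mem _ hx t)).mpr ?_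
  exact Cg.conj (D.setup.nU _) ((D.cls_eq_iff (D.rep_mem _) hx).mp (D.cls_rep _)) t

theorem conjMap_lie (t : X) (a b : D.Mod) : D.conjMap t ⁅a, b⁆ = ⁅D.conjMap t a, D.conjMap t b⁆ := by
  obtain ⟨x, y, w, hx, hy, hw, rfl, rfl, h, he⟩ := D.exists_lie a b
  rw [he, D.conjMap_cls t hx, D.conjMap_cls t hy, D.conjMap_cls t hw]
  symm
  have hn := D.setup.nU i
  refine D.lie_cls (hn.conj_mem _ hx t) (hn.conj_mem _ hy t) (hn.conj_mem _ hw t) ?_
  have h' := Cg.conj (D.setup.nU _) h t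
  rwa [← conj_pow, show t * ⁅x, y⁆ * t⁻¹ = ⁅t * x * t⁻¹, t * y * t⁻¹⁆ by
    simp only [commutatorElement_def]; group] at h'

theorem conjMap_iterate (t : X) : ∀ (m : ℕ) {x : X}, x ∈ U i →
    (D.conjMap t)^[m] (D.cls x) = D.cls (t ^ m * x * (t ^ m)⁻¹)
  | 0, x, _ => by simp
  | m + 1, x, hx => by
    rw [Function.iterate_succ_apply', conjMap_iterate t m hx,
      D.conjMap_cls t ((D.setup.nU i).conj_mem _ hx _)]
    congr 1
    group

/-- Elements of the derived terms of the Lie ring have bounded order. -/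
theorem pow_mem_of_mem_lieDer {n : ℕ} {t : X} (ht : t ^ p = 1)
    (hc : Nat.card {a : U i // t * (a : X) * t⁻¹ = a} ≤ p ^ n) {x : X} (hx : x ∈ U i)
    (hW : D.cls x ∈ lieDer D.Mod (2 ^ p)) : x ^ p ^ ((n + 1) * 2 ^ 2 ^ p) ∈ U (i + i) := by
  haveI := Fact.mk D.setup.prime
  have hfix : ∀ a : D.Mod, D.conjMap t a = a → p ^ n • a = 0 := by
    intro a ha
    obtain ⟨y, hy, rfl⟩ := D.exists_cls a
    rw [D.conjMap_cls t hy, D.cls_eq_iff ((D.setup.nU i).conj_mem _ hy t) hy] at ha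
    haveI := D.setup.nU i
    haveI : ((U (i + i)).subgroupOf (U i)).Normal := Subgroup.Normal.comap (D.setup.nU _) _
    let φ : U i →* U i := (MulAut.conjNormal t : MulAut (U i)).toMonoidHom
    have hφN : (U (i + i)).subgroupOf (U i) ≤ ((U (i + i)).subgroupOf (U i)).comap φ :=
      fun z hz => (D.setup.nU (i + i)).conj_mem _ hz t
    set ψ := QuotientGroup.map _ _ φ hφN with hψ
    set F : Subgroup (U i ⧸ (U (i + i)).subgroupOf (U i)) := ψ.eqLocus (MonoidHom.id _) with hF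
    have hcard : Nat.card F ≤ p ^ n := by
      refine (card_fixed_quotient_le φ _ hφN).trans (le_trans (le_of_eq (Nat.card_congr ?_)) hc)
      exact Equiv.subtypeEquivRight fun a => Subtype.ext_iff
    obtain ⟨m, hm⟩ := IsPGroup.iff_card.mp (((D.setup.isP.to_subgroup (U i)).to_quotient _).to_subgroup F)
    have hmn : m ≤ n := (Nat.pow_le_pow_iff_right D.setup.prime.one_lt).mp (hm ▸ hcard)
    have hyF : ((⟨y, hy⟩ : U i) : U i ⧸ (U (i + i)).subgroupOf (U i)) ∈ F :=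
      QuotientGroup.eq.mpr (Subgroup.mem_subgroupOf.mpr ha)
    have h1 : (⟨_, hyF⟩ : F) ^ p ^ n = 1 := by
      rw [← orderOf_dvd_iff_pow_eq_one]
      exact orderOf_dvd_natCard _ |>.trans (hm ▸ Nat.pow_dvd_pow p hmn)
    rw [← D.cls_pow hy, ← D.cls_one, D.cls_eq_iff (pow_mem hy _) (one_mem _)]
    exact Subgroup.mem_subgroupOf.mp (QuotientGroup.eq.mp (congrArg Subtype.val h1))
  have hTp : ∀ a : D.Mod, (D.conjMap t)^[p] a = a := by
    intro a
    obtain ⟨y, hy, rfl⟩ := D.exists_cls a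
    rw [D.conjMap_iterate t p hy, ht, one_mul, inv_one, mul_one]
  have h := lieDer_killed (D.conjMap t) (D.conjMap_lie t) hTp hfix hW
  rw [← D.cls_pow hx, ← D.cls_one, D.cls_eq_iff (pow_mem hx _) (one_mem _)] at h
  exact (h.mem_iff le_rfl).mpr (one_mem _)

end LieData

end Cfsg.Agent.AlperinFix
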