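/-
Bounded derived length for uniform good subgroups (helper83).

Main results (namespace `Cfsg.Agent.AlperinFix`): `unifBound`, `Setup.dS_le_of_uniform`.
-/
import Cfsg.Agent.Lib.AlperinFix.Mod

set_option autoImplicit false
set_option linter.style.haveILetI false
open scoped commutatorElement

namespace Cfsg.Agent.AlperinFix

variable {X : Type*} [Group X] [Finite X] {p : ℕ} {V : Subgroup X}

local notation "U" => agIter p V

/-- The bound in the uniform case. -/
def unifBound (p n : ℕ) : ℕ :=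
  max (2 ^ p + 2 ^ p + (n + 1) * 2 ^ 2 ^ p + 1) ((2 ^ 2 ^ p + 1) * (2 + 2 * ((n + 1) * 2 ^ 2 ^ p)))

namespace LieData

variable {e i : ℕ} (D : LieData p V e i)

theorem dS_approx : ∀ (s : ℕ) {g : X}, g ∈ dS (U i) s → g ∈ U (i + (2 ^ s - 1) * i) ∧
    ∃ x ∈ U i, D.cls x ∈ lieDer D.Mod s ∧
      Cg (U (i + (2 ^ s - 1) * i + i)) g (x ^ p ^ ((2 ^ s - 1) * i)) := by
  have hlev : ∀ (s : ℕ) {g : X}, g ∈ dS (U i) s → g ∈ U (i + (2 ^ s - 1) * i) := by
    intro s g hg
    haveI := Fact.mk D.setup.prime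
    rw [dS_agIter D.setup.good D.setup.isP D.setup.normal] at hg
    rw [show i + (2 ^ s - 1) * i = 2 ^ s * i by
      conv_lhs => lhs; rw [← one_mul i]
      rw [← add_mul, Nat.add_sub_cancel' Nat.one_le_two_pow]]
    exact agIter_mono (dS_antitone D.setup.normal (Nat.zero_le s)) _ hg
  intro s
  induction s with
  | zero =>
    intro g hg
    refine ⟨hlev 0 hg, g, hg, AddSubgroup.mem_top _, ?_⟩
    simp only [pow_zero, Nat.sub_self, zero_mul, pow_one]
    exact Cg.refl _
  | succ s ih =>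
    intro g hg
    refine ⟨hlev _ hg, ?_⟩
    obtain ⟨a, ha⟩ : ∃ a, (2 ^ s - 1) * i = a := ⟨_, rfl⟩
    have ha' : (2 ^ (s + 1) - 1) * i = i + (a + a) := by
      rw [← ha, show 2 ^ (s + 1) - 1 = 1 + ((2 ^ s - 1) + (2 ^ s - 1)) by
        have := Nat.one_le_two_pow (n := s); rw [pow_succ]; omega]
      ring
    simp only [ha] at ih
    rw [ha']
    have S := D.setup
    induction hg using Subgroup.closure_induction with
    | mem z hz =>
      obtain ⟨g, hg, h, hh, rfl⟩ := hz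
      obtain ⟨hg1, x, hx, hxW, hgx⟩ := ih hg
      obtain ⟨hh1, y, hy, hyW, hhy⟩ := ih hh
      obtain ⟨w, hw⟩ := D.exists_w x y
      obtain ⟨hw1, hw2⟩ := hw hx hy
      refine ⟨w, hw1, ?_, ?_⟩
      · rw [← D.lie_cls hx hy hw1 hw2]
        exact lie_mem_lieDer hxW hyW
      have hxA := S.pow_mem hx a
      have hyA := S.pow_mem hy a
      have e1 : Cg (U (i + (i + (a + a)) + i)) ⁅g, h⁆ ⁅x ^ p ^ a, y ^ p ^ a⁆ :=
        (S.comm_congr (a := i + a + i) (b := i + a) hh1 hxA hgx hhy (by omega)).symm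
      have e2 : Cg (U (i + (i + (a + a)) + i)) ⁅x ^ p ^ a, y ^ p ^ a⁆ (⁅x, y ^ p ^ a⁆ ^ p ^ a) :=
        (S.compat_left (a := i) (b := i + a) (i := i) le_rfl hx hyA a).mono (agIter_antitone V (by omega))
      have e3 : Cg (U (i + (i + (a + a)) + i)) (⁅x, y ^ p ^ a⁆ ^ p ^ a) ((⁅x, y⁆ ^ p ^ a) ^ p ^ a) :=
        (S.pow_congr (b := i + i + a) (i := i) (by omega) (S.comm_mem hx hyA (by omega))
          (S.compat_right le_rfl hx hy a) a).mono (agIter_antitone V (by omega))
      have e4 : Cg (U (i + (i + (a + a)) + i)) ((⁅x, y⁆ ^ p ^ a) ^ p ^ a) (w ^ p ^ (i + (a + a))) := by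
        rw [← pow_mul, ← pow_add, pow_add p i, pow_mul w]
        exact (S.pow_congr (b := i + i) (i := i) (by omega) (S.comm_mem hx hy (by omega)) hw2 (a + a)).mono
          (agIter_antitone V (by omega))
      exact e1.trans (e2.trans (e3.trans e4))
    | one => exact ⟨1, one_mem _, by rw [D.cls_one]; exact zero_mem _, by rw [one_pow]; exact Cg.refl _⟩
    | mul _ _ _ _ ih1 ih2 =>
      obtain ⟨x, hx, hxW, hgx⟩ := ih1
      obtain ⟨y, hy, hyW, hhy⟩ := ih2
      refine ⟨x * y, mul_mem hx hy, by rw [D.cls_mul hx hy]; exact add_mem hxW hyW, ?_⟩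
      exact (hgx.mul (S.nU _) hhy).trans
        ((S.pow_hom (b := i) (i := i) (by omega) hx hy _).symm.mono (agIter_antitone V (by omega)))
    | inv _ _ ih1 =>
      obtain ⟨x, hx, hxW, hgx⟩ := ih1
      refine ⟨x⁻¹, inv_mem hx, by rw [D.cls_inv hx]; exact neg_mem hxW, ?_⟩
      rw [inv_pow]
      exact hgx.inv (S.nU _)

end LieData

/-- The uniform case of Alperin's theorem. -/
theorem Setup.dS_le_of_uniform (S : Setup p V) {e n : ℕ} {t : X} (ht : t ^ p = 1)
    (hc : ∀ A ≤ V, Nat.card {a : A // t * (a : X) * t⁻¹ = a} ≤ p ^ n) (hu : Setup.Uniform p V e) :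
    dS V (unifBound p n) ≤ U e := by
  haveI := Fact.mk S.prime
  obtain ⟨k, hk⟩ : ∃ k, 2 ^ p = k := ⟨_, rfl⟩
  obtain ⟨c, hcc⟩ : ∃ c, (n + 1) * 2 ^ 2 ^ p = c := ⟨_, rfl⟩
  obtain ⟨m, hm⟩ : ∃ m, 2 ^ 2 ^ p = m := ⟨_, rfl⟩
  have hk2 : 4 ≤ k := hk ▸ (show 2 ^ 2 ≤ 2 ^ p from Nat.pow_le_pow_right two_pos S.prime.two_le)
  have hm4 : 4 ≤ m := hm ▸ hk ▸ (hk2.trans (Nat.lt_two_pow_self).le)
  rcases Nat.le_total e ((m + 1) * (2 + 2 * c)) with hsmall | hbig
  · have h := S.dS_le_add 0 e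
    rw [zero_add] at h
    refine le_trans (dS_antitone S.normal ?_) h
    exact hsmall.trans (le_of_eq_of_le (by rw [← hcc, ← hm]) (le_max_right _ _))
  set i := e / (m + 1) with hi
  have hNi : (m + 1) * i ≤ e := Nat.mul_div_le e (m + 1)
  have hic : 2 + 2 * c ≤ i := (Nat.le_div_iff_mul_le m.succ_pos).mpr (by rw [mul_comm]; exact hbig)
  have hNe : e < (m + 1) * i + (m + 1) := by
    have := Nat.lt_mul_div_succ e (Nat.succ_pos m)
    rw [← hi, mul_add, mul_one] at this
    exact this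
  have hm4i : 4 * i ≤ m * i := Nat.mul_le_mul_right i hm4
  have hmc : m * (2 + 2 * c) ≤ m * i := Nat.mul_le_mul_left m hic
  have hm2 : m * (2 + 2 * c) = m * 2 + 2 * (m * c) := by ring
  have hmc0 : c ≤ m * c := Nat.le_mul_of_pos_left c (by omega)
  rw [add_mul, one_mul] at hNi hNe
  have D : LieData p V e i := ⟨S, hu, by omega⟩
  have step1 : dS V k ≤ U (i - c) := by
    intro x hx
    have hg : x ^ p ^ (m * i) ∈ dS (U i) k := by
      rw [dS_agIter S.good S.isP S.normal i k, ← hk, hm]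
      rw [hk]
      exact pow_mem_agIter hx _
    obtain ⟨hg1, x', hx', hW, hgx⟩ := D.dS_approx k hg
    rw [show (2 ^ k - 1) * i = m * i - i by rw [← hk, hm, Nat.sub_mul, one_mul]] at hgx hg1
    have hkill : x' ^ p ^ c ∈ U (i + i) := by
      rw [← hcc]
      exact D.pow_mem_of_mem_lieDer ht (hc _ (agIter_le V i)) hx' (hk ▸ hW)
    have h1 : (x' ^ p ^ (m * i - i)) ^ p ^ c ∈ U (i + i + (m * i - i)) := by
      rw [← pow_mul, Nat.mul_comm (p ^ (m * i - i)), pow_mul]
      exact S.pow_mem hkill _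
    have h2 := S.pow_congr (b := i + (m * i - i)) (i := i) (by omega) hg1 hgx c
    have h3 : (x ^ p ^ (m * i)) ^ p ^ c ∈ U (i + i + (m * i - i)) :=
      (h2.mem_iff (agIter_antitone V (by omega))).mpr h1
    have h4 := S.mem_of_pow_mem hu (b := 0) (s := m * i + c) (x := x) (dS_antitone S.normal (Nat.zero_le k) hx) (i - c)
      (by omega) (by
        rw [show 0 + (m * i + c) + (i - c) = i + i + (m * i - i) by omega, pow_add, pow_mul]
        exact h3)
    rwa [zero_add] at h4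
  have step2 : dS (U i) (k + 1) ≤ U e := by
    have h1 : dS (U i) k ≤ U (i - c + m * i) := by
      rw [dS_agIter S.good S.isP S.normal i k, agIter_add, ← hk, hm, hk]
      exact agIter_mono step1 _
    rw [dS_succ]
    refine Subgroup.commutator_le.mpr fun g hg h hh => ?_
    exact S.comm_mem (h1 hg) (h1 hh) (by omega)
  have step3 : dS V (k + c) ≤ U i := by
    rw [dS_add]
    refine (dS_mono step1 c).trans ((S.dS_le_add (i - c) c).trans (agIter_antitone V (by omega)))
  refine le_trans (dS_antitone S.normal (a := k + c + (k + 1)) ?_) ?_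
  · exact le_trans (by rw [hcc, hk]; omega) (le_max_left _ _)
  rw [dS_add]
  exact (dS_mono step3 _).trans step2

end Cfsg.Agent.AlperinFix
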