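/-
Bounded derived length of `p`-groups with an automorphism of order dividing `p` with few fixed points
(helper83).

Main results (namespace `Cfsg.Agent.AlperinFix`): `pBound`, `derivedSeries_pgroup`.
-/
import Cfsg.Agent.Lib.AlperinFix.Uniform

set_option autoImplicit false
set_option linter.style.haveILetI false
open scoped commutatorElement

namespace Cfsg.Agent.AlperinFix

/-- The bound for `p`-groups. -/
def pBound (p n : ℕ) : ℕ := ((p ^ n) ^ (2 * p)).factorial + (p ^ n) ^ (2 * p) * unifBound p n

variable {X : Type*} [Group X] [Finite X] {p n : ℕ}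

theorem exists_agIter_eq_bot [Fact p.Prime] (hX : IsPGroup p X) {W : Subgroup X} (hW : W.Normal) :
    ∃ j, agIter p W j = ⊥ := by
  have key : ∀ j, agIter p W j = ⊥ ∨ Nat.card (agIter p W j) + j ≤ Nat.card W := by
    intro j
    induction j with
    | zero => exact Or.inr le_rfl
    | succ j ih =>
      rcases ih with h | h
      · exact Or.inl (le_bot_iff.mp ((agIter_antitone W j.le_succ).trans h.le))
      rcases eq_or_ne (agIter p W j) ⊥ with h0 | h0
      · exact Or.inl (le_bot_iff.mp ((agIter_antitone W j.le_succ).trans h0.le))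
      refine Or.inr ?_
      have hne : agIter p W (j + 1) ≠ agIter p W j := fun he => h0 (le_bot_iff.mp
        (le_of_le_sup_agemo hX inferInstance (agIter_normal hW j) bot_le
          (le_sup_of_le_right (le_of_eq he.symm))))
      have := Set.Finite.card_lt_card (Set.toFinite _)
        (SetLike.coe_ssubset_coe.mpr (lt_of_le_of_ne (agIter_antitone W (Nat.le_add_right j 1)) hne))
      simp only [SetLike.coe_sort_coe] at this
      omega
  refine ⟨Nat.card W, ?_⟩
  rcases key (Nat.card W) with h | h
  · exact h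
  · have := Nat.card_pos (α := agIter p W (Nat.card W))
    omega

theorem dS_eq_bot_of_layer {V : Subgroup X} {t : X} (ht : t ^ p = 1)
    (hc : ∀ A ≤ V, Nat.card {a : A // t * (a : X) * t⁻¹ = a} ≤ p ^ n) :
    ∀ q, ∀ W ≤ V, Setup p W → Setup.layer p W 0 ≤ q → dS W (q * unifBound p n) = ⊥ := by
  intro q
  induction q with
  | zero =>
    intro W _ _ h
    have : 0 < Setup.layer p W 0 := Nat.card_pos
    omega
  | succ q ih =>
    intro W hWV S hq
    haveI := Fact.mk S.prime
    rcases eq_or_ne W ⊥ with rfl | hne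
    · exact dS_bot _
    obtain ⟨j, hj⟩ := exists_agIter_eq_bot S.isP S.normal
    have h1 : 1 < Setup.layer p W 0 := by
      by_contra hle
      have hidx : (agIter p W 1).relIndex (agIter p W 0) = 1 :=
        le_antisymm (not_lt.mp hle) (Nat.card_pos (α := agIter p W 0 ⧸ (agIter p W 1).subgroupOf (agIter p W 0)))
      exact hne (le_bot_iff.mp (le_of_le_sup_agemo S.isP inferInstance S.normal bot_le
        (le_sup_of_le_right (Subgroup.relIndex_eq_one.mp hidx))))
    have hex : ∃ b, Setup.layer p W b < Setup.layer p W 0 := by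
      refine ⟨j, lt_of_le_of_lt (le_of_eq ?_) h1⟩
      show (agIter p W (j + 1)).relIndex (agIter p W j) = 1
      rw [hj, Subgroup.relIndex_bot_right]
    classical
    have hb := Nat.find_spec hex
    set b := Nat.find hex
    have hu : Setup.Uniform p W b := fun l hl => by
      have hanti : Antitone (Setup.layer p W) := antitone_nat_of_succ_le S.layer_le
      refine le_antisymm (S.layer_le l) ?_
      have h2 := Nat.find_min hex (m := l + 1) (by omega)
      have h3 := hanti (Nat.zero_le l)
      omega
    have h4 := S.dS_le_of_uniform ht (fun A hA => hc A (hA.trans hWV)) hu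
    rw [Nat.succ_mul, add_comm, dS_add]
    refine le_bot_iff.mp ((dS_mono h4 _).trans (le_of_eq ?_))
    refine ih (agIter p W b) ((agIter_le W b).trans hWV)
      ⟨S.prime, S.isP, S.nU b, S.good.mono (agIter_le W b)⟩ ?_
    show Setup.layer p W b ≤ q
    omega

/-- Alperin's theorem for `p`-groups. -/
theorem derivedSeries_pgroup {R : Type*} [Group R] [Finite R] [hp : Fact p.Prime] (hR : IsPGroup p R)
    (β : MulAut R) (hβ : β ^ p = 1) (hfix : Nat.card {g : R // β g = g} ≤ p ^ n) :
    derivedSeries R (pBound p n) = ⊥ := by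
  haveI : Finite (MulAut R) := Finite.of_injective (fun e : MulAut R => (e : R → R)) DFunLike.coe_injective
  let B := Subgroup.zpowers β
  let φ : B →* MulAut R := B.subtype
  haveI : Finite (R ⋊[φ] B) := Finite.of_equiv _ SemidirectProduct.equivProd.symm
  have hX : IsPGroup p (R ⋊[φ] B) := by
    obtain ⟨a, ha⟩ := IsPGroup.iff_card.mp hR
    have hdvd : orderOf β ∣ p ^ 1 := by rw [pow_one]; exact orderOf_dvd_of_pow_eq_one hβ
    obtain ⟨b, -, hb⟩ := (Nat.dvd_prime_pow hp.out).mp hdvd
    refine IsPGroup.of_card (n := a + b) ?_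
    rw [Nat.card_congr SemidirectProduct.equivProd, Nat.card_prod, ha, Nat.card_zpowers, hb, pow_add]
  set t : R ⋊[φ] B := SemidirectProduct.inr ⟨β, Subgroup.mem_zpowers β⟩ with ht'
  have ht : t ^ p = 1 := by
    rw [ht', ← map_pow, show (⟨β, Subgroup.mem_zpowers β⟩ : B) ^ p = 1 from Subtype.ext hβ, map_one]
  set P := (SemidirectProduct.inl : R →* R ⋊[φ] B).range with hP
  have hPn : P.Normal := by
    rw [hP, SemidirectProduct.range_inl_eq_ker_rightHom]; infer_instance
  have hc : ∀ A ≤ P, Nat.card {a : A // t * (a : R ⋊[φ] B) * t⁻¹ = a} ≤ p ^ n := by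
    intro A hA
    refine le_trans ?_ hfix
    refine Nat.card_le_card_of_injective (fun a => ⟨(a.1 : R ⋊[φ] B).left, ?_⟩) ?_
    · obtain ⟨g, hg⟩ := hA a.1.2
      have h := a.2
      rw [← hg, ht', ← map_inv, ← SemidirectProduct.inl_aut] at h
      rw [← hg, SemidirectProduct.left_inl]
      exact SemidirectProduct.inl_injective h
    · intro a b hab
      obtain ⟨g, hg⟩ := hA a.1.2
      obtain ⟨g', hg'⟩ := hA b.1.2
      have h2 : (a.1 : R ⋊[φ] B).left = (b.1 : R ⋊[φ] B).left := congrArg Subtype.val hab
      rw [← hg, ← hg', SemidirectProduct.left_inl, SemidirectProduct.left_inl] at h2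
      exact Subtype.ext (Subtype.ext (hg.symm.trans ((congrArg _ h2).trans hg')))
  obtain ⟨V, hVn, hVP, hVg, hPV⟩ := exists_good hX hPn ht hc
  have hVbot : dS V ((p ^ n) ^ (2 * p) * unifBound p n) = ⊥ := by
    refine dS_eq_bot_of_layer ht (fun A hA => hc A (hA.trans hVP)) _ V le_rfl ⟨hp.out, hX, hVn, hVg⟩ ?_
    refine relIndex_le ht hVn (agemo_normal hVn) (agemo_le V) ((hVg V hVn le_rfl).trans (agemo_le _))
      (fun a ha => ?_) (hc V hVP)
    rw [pow_mul]
    exact pow_mem (pow_mem_agemo ha) p
  have h : dS P (pBound p n) = ⊥ := by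
    rw [pBound, dS_add]
    exact le_bot_iff.mp ((dS_mono hPV _).trans hVbot.le)
  rw [hP, dS_range, Subgroup.map_eq_bot_iff_of_injective _ SemidirectProduct.inl_injective] at h
  exact h

end Cfsg.Agent.AlperinFix
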