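/-
Alperin's theorem: soluble groups with an automorphism of prime order with few fixed points have bounded
derived length (helper83).

Main results (namespace `Cfsg.Agent.AlperinFix`): `derivedSeries_pCore_quotient_le`, `alperin_bound`.
-/
import Cfsg.Agent.Lib.AlperinFix.PGroup
import Cfsg.Agent.Lib.FPFLie.Thompson
import Cfsg.Agent.Lib.Solvable.Fitting

set_option autoImplicit false
set_option linter.style.haveILetI false
open scoped commutatorElement

namespace Cfsg.Agent.AlperinFix

/-- A series with elementary abelian factors. -/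
def eSer (p : ℕ) (R : Type*) [Group R] : ℕ → Subgroup R
  | 0 => ⊤
  | j + 1 => agemo p (eSer p R j) ⊔ ⁅eSer p R j, eSer p R j⁆

theorem map_agemo {R S : Type*} [Group R] [Group S] (p : ℕ) (f : R →* S) (H : Subgroup R) :
    (agemo p H).map f = agemo p (H.map f) := by
  rw [agemo, agemo, MonoidHom.map_closure, Subgroup.coe_map, Set.image_image, Set.image_image]
  simp only [map_pow]

theorem eSer_characteristic (p : ℕ) (R : Type*) [Group R] : ∀ j, (eSer p R j).Characteristic
  | 0 => Subgroup.topCharacteristic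
  | j + 1 => Subgroup.characteristic_iff_map_eq.mpr fun e => by
    have h := Subgroup.characteristic_iff_map_eq.mp (eSer_characteristic p R j) e
    rw [eSer, Subgroup.map_sup, map_agemo, Subgroup.map_commutator, h]

theorem exists_eSer_eq_bot {p : ℕ} [Fact p.Prime] {R : Type*} [Group R] [Finite R] (hR : IsPGroup p R) :
    ∃ j, eSer p R j = ⊥ := by
  haveI : Group.IsNilpotent R := hR.isNilpotent
  have hn : ∀ j, (eSer p R j).Normal := fun j => by
    haveI := eSer_characteristic p R j
    infer_instance
  have hle : ∀ j, eSer p R (j + 1) ≤ eSer p R j := fun j => by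
    haveI := hn j
    exact sup_le (agemo_le _) (Subgroup.commutator_le_left _ _)
  have key : ∀ j, eSer p R j = ⊥ ∨ Nat.card (eSer p R j) + j ≤ Nat.card R := by
    intro j
    induction j with
    | zero => exact Or.inr (by rw [eSer, Subgroup.card_top, add_zero])
    | succ j ih =>
      rcases ih with h | h
      · exact Or.inl (le_bot_iff.mp ((hle j).trans h.le))
      rcases eq_or_ne (eSer p R j) ⊥ with h0 | h0
      · exact Or.inl (le_bot_iff.mp ((hle j).trans h0.le))
      refine Or.inr ?_
      have hne : eSer p R (j + 1) ≠ eSer p R j := by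
        intro he
        haveI := hn j
        have hDn : ⁅eSer p R j, eSer p R j⁆.Normal := Subgroup.commutator_normal _ _
        have h1 : eSer p R j ≤ ⁅eSer p R j, eSer p R j⁆ :=
          le_of_le_sup_agemo hR hDn (hn j) (Subgroup.commutator_le_left _ _)
            (by rw [sup_comm]; exact le_of_eq he.symm)
        have h2 : ∀ k, eSer p R j ≤ dS (eSer p R j) k := by
          intro k
          induction k with
          | zero => exact le_rfl
          | succ k ih => exact h1.trans (Subgroup.commutator_mono ih ih)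
        obtain ⟨k, hk⟩ := (inferInstance : Group.IsSolvable R).solvable
        refine h0 (le_bot_iff.mp ((h2 k).trans ((dS_mono le_top k).trans (le_of_eq ?_))))
        rw [dS_top, hk]
      have := Set.Finite.card_lt_card (Set.toFinite _)
        (SetLike.coe_ssubset_coe.mpr (lt_of_le_of_ne (hle j) hne))
      simp only [SetLike.coe_sort_coe] at this
      omega
  refine ⟨Nat.card R, ?_⟩
  rcases key (Nat.card R) with h | h
  · exact h
  · have := Nat.card_pos (α := eSer p R (Nat.card R))
    omega

/-- The derived series acts trivially on small sections. -/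
theorem commutator_mem_of_relIndex_le {G : Type*} [Group G] [Finite G] [Group.IsSolvable G] {A B : Subgroup G}
    (hA : A.Normal) (hB : B.Normal) {m : ℕ} (hm : B.relIndex A ≤ m) {v a : G}
    (hv : v ∈ derivedSeries G m.factorial) (ha : a ∈ A) : ⁅v, a⁆ ∈ B := by
  haveI := hB
  haveI hAn : (A.map (QuotientGroup.mk' B)).Normal :=
    Subgroup.Normal.map hA _ (QuotientGroup.mk'_surjective _)
  set Ab := A.map (QuotientGroup.mk' B)
  let f : G →* Equiv.Perm Ab :=
    (MulAut.toPerm Ab).comp ((MulAut.conjNormal (H := Ab)).comp (QuotientGroup.mk' B))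
  have hcard : Nat.card (Equiv.Perm Ab) ≤ m.factorial := by
    rw [Nat.card_perm]
    refine Nat.factorial_le (le_of_eq_of_le ?_ hm)
    rw [← Subgroup.relIndex_ker, QuotientGroup.ker_mk']
  have h1 : (f v) ⟨(a : G ⧸ B), ⟨a, ha, rfl⟩⟩ = ⟨(a : G ⧸ B), ⟨a, ha, rfl⟩⟩ := by
    rw [show f v = 1 from derivedSeries_le_ker f hcard hv]; rfl
  exact mem_of_commute_mk (mul_inv_eq_iff_eq_mul.mp (congrArg Subtype.val h1))

theorem card_fixed_res_le {G : Type*} [Group G] [Finite G] (α : MulAut G) (H : Subgroup G) {c : ℕ}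
    (hc : Nat.card {g : G // α g = g} ≤ c) : Nat.card {a : H // α (a : G) = a} ≤ c :=
  le_trans (Nat.card_le_card_of_injective (fun a => (⟨(a.1 : G), a.2⟩ : {g : G // α g = g}))
    fun _ _ h => Subtype.ext (Subtype.ext (congrArg (fun z : {g : G // α g = g} => (z : G)) h))) hc

/-- The case of a trivial `p'`-core. -/
theorem derivedSeries_of_pPrimeCore_eq_bot {G : Type*} [Group G] [Finite G] [Group.IsSolvable G] {p n : ℕ}
    [Fact p.Prime] (h0 : Cfsg.pPrimeCore p G = ⊥) (α : MulAut G) (hα : α ^ p = 1)
    (hc : Nat.card {g : G // α g = g} ≤ p ^ n) :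
    derivedSeries G (((p ^ n) ^ (2 * p)).factorial + pBound p n) = ⊥ := by
  set R := Cfsg.pCore p G with hR
  have hRp : IsPGroup p R := Cores.isPGroup_pCore p G
  let act := (Subgroup.zpowers α).subtype
  have hinv : FPF.Inv act R := FPF.inv_of_characteristic act R
  let a₀ : Subgroup.zpowers α := ⟨α, Subgroup.mem_zpowers α⟩
  let β : MulAut R := FPF.resAct act R hinv a₀
  have hβ : β ^ p = 1 := by
    show (FPF.resAct act R hinv a₀) ^ p = 1
    rw [← map_pow, show a₀ ^ p = 1 from Subtype.ext hα, map_one]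
  have hRdl : derivedSeries R (pBound p n) = ⊥ := by
    refine derivedSeries_pgroup hRp β hβ (le_trans (le_of_eq ?_) (card_fixed_res_le α R hc))
    exact Nat.card_congr (Equiv.subtypeEquivRight fun a => Subtype.ext_iff)
  set L := derivedSeries G (((p ^ n) ^ (2 * p)).factorial) with hL
  let H : ℕ → Subgroup G := fun j => (eSer p R j).map R.subtype
  have hHn : ∀ j, (H j).Normal := fun j => by
    haveI := eSer_characteristic p R j
    haveI : R.Normal := Cores.pCore_normal p G
    exact ConjAct.normal_of_characteristic_of_normal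
  have hHα : ∀ j, ∀ a ∈ H j, α a ∈ H j := by
    rintro j _ ⟨s, hs, rfl⟩
    exact ⟨β s, (Subgroup.characteristic_iff_map_le.mp (eSer_characteristic p R j) β) ⟨s, hs, rfl⟩, rfl⟩
  have htriv : ∀ j, ∀ v ∈ L, ∀ a ∈ H j, ⁅v, a⁆ ∈ H (j + 1) := by
    intro j v hv a ha
    refine commutator_mem_of_relIndex_le (hHn j) (hHn (j + 1)) ?_ hv ha
    refine relIndex_le_aut α hα (hHn (j + 1)) ?_ ?_ (hHα j) (hHα (j + 1)) (card_fixed_res_le α (H j) hc)
    · rw [← Subgroup.map_commutator]
      exact Subgroup.map_mono le_sup_right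
    · rintro _ ⟨s, hs, rfl⟩
      rw [← map_pow, pow_mul]
      exact ⟨(s ^ p) ^ p, pow_mem (Subgroup.mem_sup_left (pow_mem_agemo hs)) p, rfl⟩
  have hcent : ∀ g ∈ L, (orderOf g).Coprime p → g ∈ Subgroup.centralizer (R : Set G) := by
    intro g hg hcop
    obtain ⟨J, hJ⟩ := exists_eSer_eq_bot hRp
    have hanti : ∀ j, eSer p R (j + 1) ≤ eSer p R j := fun j => by
      haveI := eSer_characteristic p R j
      exact sup_le (agemo_le _) (Subgroup.commutator_le_left _ _)
    have key : ∀ d j, J ≤ j + d → ∀ x ∈ H j, Commute g x := by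
      intro d
      induction d with
      | zero =>
        intro j hj x hx
        obtain ⟨s, hs, rfl⟩ := hx
        have hs1 : s ∈ (⊥ : Subgroup R) :=
          hJ ▸ (antitone_nat_of_succ_le (f := eSer p R) hanti (show J ≤ j by omega)) hs
        rw [Subgroup.mem_bot.mp hs1, map_one]
        exact Commute.one_right g
      | succ d ih =>
        intro j hj x hx
        have hz : ⁅g, x⁆ ∈ H (j + 1) := htriv j g hg x hx
        have hgz : Commute g ⁅g, x⁆ := ih (j + 1) (by omega) _ hz
        have hit : ∀ k : ℕ, g ^ k * x * (g ^ k)⁻¹ = ⁅g, x⁆ ^ k * x := by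
          intro k
          induction k with
          | zero => simp
          | succ k ihk =>
            calc g ^ (k + 1) * x * (g ^ (k + 1))⁻¹ = g * (g ^ k * x * (g ^ k)⁻¹) * g⁻¹ := by group
              _ = g * (⁅g, x⁆ ^ k * x) * g⁻¹ := by rw [ihk]
              _ = ⁅g, x⁆ ^ k * (g * x * g⁻¹) := by
                  rw [← mul_assoc g, (hgz.pow_right k).eq]; group
              _ = _ := by rw [pow_succ, commutatorElement_def]; group
        have h1 := hit (orderOf g)
        rw [pow_orderOf_eq_one, one_mul, inv_one, mul_one, eq_comm, mul_eq_right] at h1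
        obtain ⟨s, -, hs⟩ := hz
        obtain ⟨b, hb⟩ := hRp s
        have h2 : ⁅g, x⁆ ^ p ^ b = 1 := by
          rw [← hs, ← map_pow, hb, map_one]
        have h3 : ⁅g, x⁆ = 1 := by
          rw [← orderOf_eq_one_iff]
          exact Nat.eq_one_of_dvd_coprimes (hcop.pow_right b) (orderOf_dvd_of_pow_eq_one h1)
            (orderOf_dvd_of_pow_eq_one h2)
        exact commutatorElement_eq_one_iff_commute.mp h3
    rw [Subgroup.mem_centralizer_iff]
    intro x hx
    exact (key J 0 (by omega) x ⟨⟨x, hx⟩, Subgroup.mem_top _, rfl⟩).eq.symm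
  have hLR : L ≤ R := by
    refine Cores.le_pCore (derivedSeries_normal G _) fun g => ?_
    have hp := (Fact.out : p.Prime)
    obtain ⟨a, m, hm, hgm⟩ := Nat.exists_eq_pow_mul_and_not_dvd (orderOf_pos (g : G)).ne' p hp.ne_one
    set g' : G := (g : G) ^ p ^ a
    have hg'm : g' ^ m = 1 := by rw [← pow_mul, ← hgm, pow_orderOf_eq_one]
    have hcop : (orderOf g').Coprime p :=
      Nat.Coprime.coprime_dvd_left (orderOf_dvd_of_pow_eq_one hg'm) (hp.coprime_iff_not_dvd.mpr hm).symm
    have hg'R : g' ∈ R := Solvable.centralizer_pCore_le_of_isSolvable h0 (hcent g' (pow_mem g.2 _) hcop)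
    obtain ⟨b, hb⟩ := hRp ⟨g', hg'R⟩
    have hb' : g' ^ p ^ b = 1 := congrArg Subtype.val hb
    refine ⟨a, Subtype.ext ?_⟩
    show g' = 1
    rw [← orderOf_eq_one_iff]
    exact Nat.eq_one_of_dvd_coprimes (hcop.pow_right b) dvd_rfl (orderOf_dvd_of_pow_eq_one hb')
  refine le_bot_iff.mp ?_
  rw [← dS_top, dS_add, dS_top]
  exact (dS_mono hLR _).trans ((dS_eq_bot_iff R _).mpr hRdl).le

/-- **Alperin's theorem.** -/
theorem alperin_bound {G : Type*} [Group G] [Finite G] (hG : Group.IsSolvable G) {p n : ℕ} [hp : Fact p.Prime]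
    (α : MulAut G) (hα : orderOf α = p) (hfix : Nat.card {g : G // α g = g} = p ^ n) :
    derivedSeries G (((p ^ n) ^ (2 * p)).factorial + pBound p n +
      FPFLie.geomBound (p - 1) (2 ^ (p - 1) - 1)) = ⊥ := by
  haveI := hG
  set Q := Cfsg.pPrimeCore p G with hQ
  let act := (Subgroup.zpowers α).subtype
  have hinv : FPF.Inv act Q := FPF.inv_of_characteristic act Q
  let a₀ : Subgroup.zpowers α := ⟨α, Subgroup.mem_zpowers α⟩
  have ha₀ : a₀ ^ p = 1 := Subtype.ext (by rw [← hα]; exact pow_orderOf_eq_one α)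
  let β : MulAut Q := FPF.resAct act Q hinv a₀
  have hfpf : ∀ g : Q, β g = g → g = 1 := by
    intro g hg
    let F : Subgroup G := α.toMonoidHom.eqLocus (MonoidHom.id G)
    have hF : Nat.card F = p ^ n := hfix ▸ rfl
    have hgF : (g : G) ∈ F := congrArg Subtype.val hg
    refine Subtype.ext ?_
    show (g : G) = 1
    rw [← orderOf_eq_one_iff]
    have h1 : orderOf (g : G) ∣ p ^ n := hF ▸ Subgroup.orderOf_dvd_natCard F hgF
    exact Nat.eq_one_of_dvd_coprimes ((Cores.coprime_card_pPrimeCore p).pow_right n)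
      (Subgroup.orderOf_dvd_natCard Q g.2) h1
  have hQdl : derivedSeries Q (FPFLie.geomBound (p - 1) (2 ^ (p - 1) - 1)) = ⊥ := by
    by_cases hβ1 : β = 1
    · haveI : Subsingleton Q := ⟨fun x y => by
        rw [hfpf x (by rw [hβ1]; rfl), hfpf y (by rw [hβ1]; rfl)]⟩
      exact Subsingleton.elim _ _
    · have hord : orderOf β = p := by
        refine orderOf_eq_prime ?_ hβ1
        show (FPF.resAct act Q hinv a₀) ^ p = 1
        rw [← map_pow, ha₀, map_one]
      haveI := FPF.isNilpotent_of_fpf_mulAut β hord hfpf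
      exact le_bot_iff.mp ((derived_le_lower_central _).trans (FPFLie.class_bound β hord hfpf).1.le)
  let αb : MulAut (G ⧸ Q) := FPF.quotAct act Q hinv a₀
  have hαb : αb ^ p = 1 := by
    show (FPF.quotAct act Q hinv a₀) ^ p = 1
    rw [← map_pow, ha₀, map_one]
  have hcb : Nat.card {q : G ⧸ Q // αb q = q} ≤ p ^ n := by
    refine le_trans ?_ hfix.le
    refine le_trans (le_of_eq (Nat.card_congr (Equiv.subtypeEquivRight fun q => ?_)))
      (card_fixed_quotient_le α.toMonoidHom Q fun g hg => hinv a₀ g hg)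
    induction q using QuotientGroup.induction_on with
    | _ g => exact Iff.rfl
  have h := derivedSeries_of_pPrimeCore_eq_bot (Cores.pPrimeCore_quotient_self p) αb hαb hcb
  have h1 : derivedSeries G (((p ^ n) ^ (2 * p)).factorial + pBound p n) ≤ Q := by
    rw [← QuotientGroup.ker_mk' Q, ← Subgroup.map_eq_bot_iff]
    exact le_bot_iff.mp ((map_derivedSeries_le_derivedSeries _ _).trans h.le)
  refine le_bot_iff.mp ?_
  rw [← dS_top, dS_add, dS_top]
  exact (dS_mono h1 _).trans ((dS_eq_bot_iff Q _).mpr hQdl).le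

end Cfsg.Agent.AlperinFix
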